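import Cfsg.Agent.Lib.Recog.Walter.Field.Setting
import Cfsg.Agent.Lib.LocalEven.GoldS.PSLCent
import Cfsg.Agent.Lib.LocalEven.Zsigmondy
import Cfsg.Agent.Lib.Core.SchurZassenhaus
import Cfsg.Agent.Lib.Techniques.Basic

/-!
Owner: helper29. Walter, field part, `3 ∣ n`: the Borel data of the component `L ≅ PSL(2, 3 ^ k)`.

* `Data L k`: root group `U`, torus `T`, Weyl involution `w`, a torus element `a` of primitive prime order `s`;
  `exists_data`;
* `Data.centralizer_U`: only `U` centralises `U` in `E`;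
* `exists_frame`: if `3 ∣ n`, a 3-element of `E` outside `L` normalises `U` and `T`; it moves `a`.
-/

set_option autoImplicit false
set_option linter.style.haveILetI false
set_option linter.unusedSectionVars false

namespace CfsgLib.Walter.Field.Three

open Subgroup
open CfsgLib.LocalEven.GoldS

universe u

variable {G : Type u} [Group G]

/-- The Borel data of `L ≅ PSL(2, 3 ^ k)`. -/
structure Data (L : Subgroup G) (k : ℕ) where
  U : Subgroup G
  T : Subgroup G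
  w : G
  u₀ : G
  a : G
  s : ℕ
  U_le : U ≤ L
  T_le : T ≤ L
  card_U : Nat.card U = 3 ^ k
  U_comm : ∀ x ∈ U, ∀ y ∈ U, x * y = y * x
  U_cube : ∀ x ∈ U, x ^ 3 = 1
  T_cyclic : IsCyclic T
  T_card : 2 * Nat.card T + 1 = 3 ^ k
  T_odd : Odd (Nat.card T)
  T_norm : T ≤ normalizer (U : Set G)
  free : ∀ c ∈ T, c ≠ 1 → ∀ x ∈ U, c * x = x * c → x = 1
  w_mem : w ∈ L
  w_sq : w * w = 1
  w_inv : ∀ c ∈ T, w * c * w⁻¹ = c⁻¹
  w_not : w ∉ normalizer (U : Set G)
  gen : ∀ H : Subgroup G, U ≤ H → ∀ g ∈ H, g ∈ L → g ∉ normalizer (U : Set G) → L ≤ H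
  normalizer_U : L ⊓ normalizer (U : Set G) ≤ U ⊔ T
  cent_U : ∀ x ∈ U, x ≠ 1 → ∀ c ∈ L, c * x = x * c → c ∈ U
  cent_T : ∀ x ∈ T, x ≠ 1 → ∀ c ∈ L, c * x = x * c → c ∈ T
  odd_le : ∀ H : Subgroup G, H ≤ L → U ≤ H → Odd (Nat.card H) → H ≤ U ⊔ T
  u₀_mem : u₀ ∈ U
  rel : (u₀ * w) ^ 3 = 1
  rigid : ∀ c ∈ T, (u₀ * (c * w)) ^ 3 = 1 → c = 1
  prime_s : s.Prime
  big : 2 * k < s
  a_mem : a ∈ T
  order_a : orderOf a = s
  irred : ∀ X : Subgroup G, X ≤ U → a ∈ normalizer (X : Set G) → X = ⊥ ∨ X = U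

section PSL

variable {F : Type} [Field F] [Fintype F]

open CfsgLib.PLocal.SLTwo CfsgLib.LocalEven.GoldS.PSLF

theorem psl_rel : (u (1 : F) * ww F) ^ 3 = (1 : P2 F) := by
  rw [u, ww, ← map_mul, ← map_pow, PSLF.mk_eq_one]
  left
  refine ext2 ?_ ?_ ?_ ?_ <;> simp [pow_succ, m00, m01, m10, m11]

theorem psl_rigid (b : Fˣ) (hb : (u (1 : F) * (mk (dS b) * ww F)) ^ 3 = (1 : P2 F)) : mk (dS b) = 1 := by
  rw [u, ww, ← map_mul, ← map_mul, ← map_pow, PSLF.mk_eq_one] at hb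
  refine dHom_eq_one.2 ?_
  have key : ((b⁻¹ : Fˣ) : F) ^ 2 = 1 := by
    have hne : ((b⁻¹ : Fˣ) : F) ≠ 0 := (b⁻¹).ne_zero
    rcases hb with e | e <;>
    · have e' := congrArg (fun x : S2 F => x.1 1 0) e
      simp [pow_succ, m00, m01, m10, m11, -Units.val_inv_eq_inv_val] at e'
      refine mul_left_cancel₀ hne ?_
      first
      | linear_combination e'
      | linear_combination -e'
  have h1 : (((b⁻¹ : Fˣ) : F) - 1) * (((b⁻¹ : Fˣ) : F) + 1) = 0 := by linear_combination key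
  rcases mul_eq_zero.1 h1 with h2 | h2
  · exact Or.inl (inv_eq_one.1 (Units.ext (sub_eq_zero.1 h2)))
  · refine Or.inr (inv_injective ?_)
    rw [inv_neg, inv_one]
    exact Units.ext (by rw [Units.val_neg, Units.val_one]; exact eq_neg_of_add_eq_zero_left h2)

end PSL

/-- A primitive prime of `3 ^ k - 1`. -/
theorem exists_prime {k : ℕ} (hk : Odd k) (hk1 : 1 < k) :
    ∃ s : ℕ, s.Prime ∧ 2 * k < s ∧ s ∣ 3 ^ k - 1 ∧ ∀ j : ℕ, 0 < j → j < k → ¬ s ∣ 3 ^ j - 1 := by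
  obtain ⟨s, hs, hd, hprim⟩ := CfsgLib.Zsigmondy.exists_primitive_prime_divisor (a := 3) (by norm_num) hk1
    (by omega) (fun h => by obtain ⟨j, hj⟩ := hk; omega)
  haveI := Fact.mk hs
  refine ⟨s, hs, ?_, hd, hprim⟩
  have hs2 : s ≠ 2 := fun e => hprim 1 one_pos hk1 (by rw [e]; norm_num)
  have hs3 : s ≠ 3 := fun e => by
    subst e
    have h1 : 3 ∣ 3 ^ k := dvd_pow_self 3 (by omega)
    have h2 := Nat.one_le_pow k 3 (by norm_num)
    omega
  have h3 : (3 : ZMod s) ≠ 0 := fun e => hs3 ((Nat.prime_dvd_prime_iff_eq hs Nat.prime_three).1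
    ((ZMod.natCast_eq_zero_iff 3 s).1 (by exact_mod_cast e)))
  have hcast : ∀ j, s ∣ 3 ^ j - 1 ↔ (3 : ZMod s) ^ j = 1 := fun j => by
    rw [← ZMod.natCast_eq_zero_iff, Nat.cast_sub (Nat.one_le_pow _ _ (by norm_num)), sub_eq_zero,
      Nat.cast_pow, Nat.cast_one, Nat.cast_ofNat]
  have ho : orderOf (3 : ZMod s) = k := (orderOf_eq_iff (by omega)).2
    ⟨(hcast k).1 hd, fun j hj hj0 e => hprim j hj0 hj ((hcast j).2 e)⟩
  have hdvd : k ∣ s - 1 := ho ▸ ZMod.orderOf_dvd_card_sub_one h3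
  have hsodd : Odd s := hs.odd_of_ne_two hs2
  have h2 : 2 * k ∣ s - 1 := (Nat.coprime_two_left.2 hk).mul_dvd_of_dvd_of_dvd
    (by obtain ⟨j, hj⟩ := hsodd; exact ⟨j, by omega⟩) hdvd
  have := Nat.le_of_dvd (by have := hs.two_le; omega) h2
  omega

/-- A fixed point free element of primitive prime order is irreducible on an elementary group. -/
theorem irred_of_free [Finite G] {U : Subgroup G} {a : G} {k s : ℕ} (hs : s.Prime) (hU : Nat.card U = 3 ^ k)
    (hord : orderOf a = s) (hfree : ∀ x ∈ U, a * x = x * a → x = 1)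
    (hprim : ∀ j : ℕ, 0 < j → j < k → ¬ s ∣ 3 ^ j - 1) (X : Subgroup G) (hX : X ≤ U)
    (ha : a ∈ normalizer (X : Set G)) : X = ⊥ ∨ X = U := by
  haveI := Fact.mk hs
  set A := zpowers a
  have hAp : IsPGroup s A := IsPGroup.of_card (n := 1) (by rw [Nat.card_zpowers, hord, pow_one])
  letI : MulDistribMulAction A X := MulDistribMulAction.compHom X
    (Subgroup.inclusion (zpowers_le.2 ha) : A →* ↥(normalizer (X : Set G)))
  have hsmul : ∀ (c : A) (x : X), ((c • x : X) : G) = (c : G) * x * (c : G)⁻¹ := fun c x => rfl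
  have hfix : Nat.card (MulAction.fixedPoints A X) = 1 := by
    refine Nat.card_eq_one_iff_unique.2 ⟨⟨fun x y => ?_⟩, ⟨⟨1, fun c => smul_one c⟩⟩⟩
    have h1 : ∀ x : MulAction.fixedPoints A X, ((x : X) : G) = 1 := fun x => hfree _ (hX (x : X).2) (by
      have h2 := congrArg Subtype.val (x.2 (⟨a, mem_zpowers a⟩ : A))
      rw [hsmul] at h2
      exact mul_inv_eq_iff_eq_mul.1 h2)
    exact Subtype.ext (Subtype.ext ((h1 x).trans (h1 y).symm))
  have hmod := hAp.card_modEq_card_fixedPoints X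
  rw [hfix] at hmod
  obtain ⟨j, hjk, hj⟩ := (Nat.dvd_prime_pow Nat.prime_three).1 (hU ▸ card_dvd_of_le hX)
  rcases Nat.eq_zero_or_pos j with rfl | hj0
  · exact Or.inl (eq_bot_of_card_eq _ (by simpa using hj))
  · rcases hjk.eq_or_lt with rfl | hlt
    · exact Or.inr (eq_of_le_of_card_ge hX (by rw [hj, hU]))
    · refine absurd ?_ (hprim j hj0 hlt)
      rw [hj] at hmod
      exact (Nat.modEq_iff_dvd' (Nat.one_le_pow _ _ (by norm_num))).1 hmod.symm

section

variable [Finite G] {t : G} {E L : Subgroup G} {F : Type} [Field F] [Fintype F] (h : Setting t E L F)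
include h

omit [Finite G] in
theorem card_eq [hF : CharP F 3] : ∃ k : ℕ, Odd k ∧ 1 < k ∧ Fintype.card F = 3 ^ k := by
  obtain ⟨p, k, -, -, hk, hc, hcard⟩ := h.field
  obtain rfl : p = 3 := CharP.eq F hc hF
  refine ⟨k, hk, ?_, hcard⟩
  by_contra h1
  obtain rfl : k = 1 := by obtain ⟨j, hj⟩ := hk; omega
  have := h.five
  omega

omit [Finite G] in
theorem mod_three [CharP F 3] : Fintype.card F % 8 = 3 := by
  obtain ⟨k, ⟨j, rfl⟩, -, hcard⟩ := card_eq h
  rw [hcard, pow_succ, pow_mul, Nat.mul_mod, Nat.pow_mod]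
  norm_num

/-- The Borel data exist. -/
theorem exists_data [CharP F 3] : ∃ k : ℕ, Nat.card F = 3 ^ k ∧ Odd k ∧ Nonempty (Data L k) := by
  obtain ⟨k, hk, hk1, hcard⟩ := card_eq h
  refine ⟨k, Nat.card_eq_fintype_card.trans hcard, hk, ?_⟩
  have h8 := mod_three h
  obtain ⟨e⟩ := h.iso
  set f : PSLF.P2 F →* G := L.subtype.comp e.symm.toMonoidHom with hf
  have hinj : Function.Injective f := L.subtype_injective.comp e.symm.injective
  have hfL : ∀ x, f x ∈ L := fun x => (e.symm x).2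
  have hsurj : ∀ c ∈ L, ∃ x, f x = c := fun c hc => ⟨e ⟨c, hc⟩, congrArg Subtype.val (e.symm_apply_apply ⟨c, hc⟩)⟩
  set U := (PSLF.Us F).map f with hU
  set T := (PSLF.Hs F).map f with hT
  have hUL : U ≤ L := by rintro _ ⟨x, -, rfl⟩; exact hfL x
  have hTL : T ≤ L := by rintro _ ⟨x, -, rfl⟩; exact hfL x
  have hcU : Nat.card U = 3 ^ k := by
    rw [hU, card_map_of_injective hinj, PSLF.card_Us, hcard]
  have hcT : 2 * Nat.card T + 1 = 3 ^ k := by
    rw [hT, card_map_of_injective hinj, PSLF.card_Hs, hcard]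
    have := Nat.one_le_pow k 3 (by norm_num)
    omega
  have hfree : ∀ c ∈ T, c ≠ 1 → ∀ x ∈ U, c * x = x * c → x = 1 := by
    rintro _ ⟨c, hc, rfl⟩ hc1 _ ⟨x, hx, rfl⟩ hcx
    rw [PSLF.Hs_free hc (fun e => hc1 (by rw [e, map_one])) hx (hinj (by rw [map_mul, map_mul]; exact hcx)), map_one]
  -- normalisers
  have hnU : ∀ x, f x ∈ normalizer (U : Set G) → x ∈ PSLF.Bs F := by
    intro x hx
    have h1 := (mem_normalizer_iff.1 hx (f (PSLF.u 1))).1 (mem_map_of_mem f (PSLF.u_mem 1))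
    obtain ⟨y, hy, hye⟩ := h1
    refine PSLF.normalizer_Us (t := (1 : F)) one_ne_zero ?_
    rw [← map_inv, ← map_mul, ← map_mul] at hye
    rw [← hinj hye]
    exact hy
  have hBle : ∀ x ∈ PSLF.Bs F, f x ∈ U ⊔ T := by
    intro x hx
    obtain ⟨y, hy, c, hc, rfl⟩ := PSLF.Bs_decomp hx
    rw [map_mul]
    exact mul_mem (mem_sup_left (mem_map_of_mem f hy)) (mem_sup_right (mem_map_of_mem f hc))
  have hTn : T ≤ normalizer (U : Set G) := by
    rintro _ ⟨c, hc, rfl⟩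
    refine mem_normalizer_iff.2 fun x => ⟨?_, fun hx => ?_⟩
    · rintro ⟨y, hy, rfl⟩
      exact ⟨c * y * c⁻¹, PSLF.Hs_normalizes hc hy, by rw [map_mul, map_mul, map_inv]⟩
    · obtain ⟨y, hy, hye⟩ := hx
      refine ⟨c⁻¹ * y * c⁻¹⁻¹, PSLF.Hs_normalizes (inv_mem hc) hy, ?_⟩
      simp only [map_mul, map_inv, hye]; group
  -- the primitive element
  obtain ⟨s, hs, hbig, hsd, hprim⟩ := exists_prime hk hk1
  haveI := Fact.mk hs
  have hsT : s ∣ Nat.card T := by
    have h1 : s ∣ 2 * Nat.card T := by rwa [show 2 * Nat.card T = 3 ^ k - 1 by omega]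
    exact (hs.dvd_mul.1 h1).resolve_left fun h2 => by
      have := Nat.le_of_dvd two_pos h2
      omega
  obtain ⟨a, ha⟩ := exists_prime_orderOf_dvd_card' (G := T) s hsT
  have hao : orderOf (a : G) = s := by rw [Subgroup.orderOf_coe, ha]
  have hww : f (PSLF.ww F) * f (PSLF.ww F) = 1 := by
    rw [← map_mul, ← map_one f]
    exact congrArg f (CfsgLib.Signalizer.involution_sq PSLF.orderOf_ww)
  refine ⟨
    { U := U, T := T, w := f (PSLF.ww F), u₀ := f (PSLF.u 1), a := a, s := s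
      U_le := hUL, T_le := hTL, card_U := hcU
      U_comm := ?_, U_cube := ?_, T_cyclic := ?_, T_card := hcT, T_odd := ?_, T_norm := hTn, free := hfree
      w_mem := hfL _, w_sq := hww, w_inv := ?_, w_not := ?_, gen := ?_, normalizer_U := ?_, cent_U := ?_,
      cent_T := ?_, odd_le := ?_, u₀_mem := mem_map_of_mem f (PSLF.u_mem 1), rel := ?_, rigid := ?_
      prime_s := hs, big := hbig, a_mem := a.2, order_a := hao, irred := ?_ }⟩
  · rintro _ ⟨_, ⟨x, rfl⟩, rfl⟩ _ ⟨_, ⟨y, rfl⟩, rfl⟩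
    rw [← map_mul, ← map_mul]
    exact congrArg f (by rw [PSLF.u_mul, PSLF.u_mul, add_comm])
  · rintro _ ⟨_, ⟨x, rfl⟩, rfl⟩
    rw [← map_pow, pow_succ, pow_two, PSLF.u_mul, PSLF.u_mul, show x + x + x = (3 : ℕ) * x by push_cast; ring,
      CharP.cast_eq_zero F 3, zero_mul, PSLF.u_zero, map_one]
  · haveI := PSLF.isCyclic_Hs (F := F)
    exact isCyclic_of_surjective ((PSLF.Hs F).equivMapOfInjective f hinj).toMonoidHom (MulEquiv.surjective _)
  · rw [hT, card_map_of_injective hinj]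
    exact PSLF.odd_card_Hs h8
  · rintro _ ⟨c, hc, rfl⟩
    rw [← map_inv, ← map_mul, ← map_mul, PSLF.ww_inv hc, map_inv]
  · intro hw
    obtain ⟨y, hy, h10⟩ := hnU _ hw
    rcases PSLF.mk_eq_mk.1 hy with e' | e' <;>
    · have := congrArg (fun z : CfsgLib.PLocal.SLTwo.S2 F => z.1 1 0) e'
      simp [h10] at this
  · intro H hUH g hg hgL hgn c hc
    obtain ⟨g', rfl⟩ := hsurj g hgL
    obtain ⟨c', rfl⟩ := hsurj c hc
    have htop := PSLF.closure_Us (L := H.comap f) (fun x hx => hUH (mem_map_of_mem f hx)) (g := g') hg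
      (fun hB => hgn ((sup_le le_normalizer hTn) (hBle _ hB)))
    exact (htop ▸ mem_top c' : c' ∈ H.comap f)
  · rintro c ⟨hcL, hcn⟩
    obtain ⟨x, rfl⟩ := hsurj c hcL
    exact hBle x (hnU x hcn)
  · rintro _ ⟨x, hx, rfl⟩ hx1 c hc hcx
    obtain ⟨c', rfl⟩ := hsurj c hc
    obtain ⟨r, rfl⟩ := hx
    refine mem_map_of_mem f (PSLF.centralizer_u (t := r) (fun e => hx1 (by rw [e, PSLF.u_zero, map_one])) ?_)
    exact hinj (by rw [map_mul, map_mul]; exact hcx)
  · rintro _ ⟨x, hx, rfl⟩ hx1 c hc hcx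
    obtain ⟨c', rfl⟩ := hsurj c hc
    exact mem_map_of_mem f (PSLF.centralizer_Hs h8 hx (fun e => hx1 (by rw [e, map_one]))
      (hinj (by rw [map_mul, map_mul]; exact hcx)))
  · intro H hH hUH hodd c hc
    obtain ⟨c', rfl⟩ := hsurj c (hH hc)
    refine hBle c' (PSLF.le_Bs_of_odd (L := H.comap f) (fun x hx => hUH (mem_map_of_mem f hx)) ?_ hc)
    refine hodd.of_dvd_nat ?_
    rw [← card_map_of_injective hinj]
    exact card_dvd_of_le (map_comap_le _ _)
  · rw [← map_mul, ← map_pow, psl_rel, map_one]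
  · rintro _ ⟨c, ⟨b, rfl⟩, rfl⟩ hb
    rw [← map_mul, ← map_mul, ← map_pow, ← map_one f] at hb
    exact (congrArg f (psl_rigid b (hinj hb))).trans (map_one f)
  · exact irred_of_free hs hcU hao
      (fun x hx => hfree a a.2 (fun e => hs.one_lt.ne' (by rw [← hao, e, orderOf_one])) x hx) hprim

end

end CfsgLib.Walter.Field.Three
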