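import Cfsg.Agent.Lib.Recog.Walter.Field.Three.Data
import Cfsg.Agent.Lib.Core.Coprime

/-!
Owner: helper29. Walter, field part, `3 ∣ n`: the frame.

* `Data.centralizer_U`: only `U` centralises `U` in `E`;
* `Data.mem_U_of_commute`: a 3-element of `N_E(U)` commuting with `a` lies in `U`;
* `Data.scalar`: `N_E(U)` acts on `⟨a⟩` modulo `U`;
* `Frame`, `exists_frame`: if `3 ∣ n`, a 3-element `z` of `E` outside `L` normalises `U` and `T`.
-/

set_option autoImplicit false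
set_option linter.style.haveILetI false
set_option linter.unusedSectionVars false

namespace CfsgLib.Walter.Field.Three

open Subgroup
open scoped Pointwise

universe u

variable {G : Type u} [Group G] [Finite G]

theorem mem_normalizer_of_conj_mem {H : Subgroup G} {g : G} (h : ∀ x ∈ H, g * x * g⁻¹ ∈ H) :
    g ∈ normalizer (H : Set G) := by
  refine mem_normalizer_iff_map_conj_eq.2 (eq_of_le_of_card_ge ?_ ?_)
  · rintro _ ⟨x, hx, rfl⟩
    exact h x hx
  · rw [card_map_of_injective]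
    exact (MulAut.conj g).injective

variable {L : Subgroup G} {k : ℕ}

namespace Data

variable (d : Data L k)
include d

theorem U_ne_bot : d.U ≠ ⊥ := by
  intro e
  have h1 := d.T_card
  have h2 := d.card_U
  rw [e, Subgroup.card_bot] at h2
  have h3 : 0 < Nat.card d.T := Nat.card_pos
  omega

theorem exists_ne : ∃ x ∈ d.U, x ≠ 1 := (bot_or_exists_ne_one d.U).resolve_left d.U_ne_bot

theorem a_ne_one : d.a ≠ 1 := fun e => d.prime_s.one_lt.ne' (by rw [← d.order_a, e, orderOf_one])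

theorem a_normalizes : d.a ∈ normalizer (d.U : Set G) := d.T_norm d.a_mem

theorem k_ne_zero : k ≠ 0 := by
  rintro rfl
  have h1 := d.T_card
  have h3 : 0 < Nat.card d.T := Nat.card_pos
  omega

theorem T_coprime : (Nat.card d.T).Coprime 3 := by
  refine (Nat.prime_three.coprime_iff_not_dvd.2 fun h => ?_).symm
  have h1 := d.T_card
  have h2 : 3 ∣ 3 ^ k := dvd_pow_self 3 d.k_ne_zero
  rw [← h1] at h2
  have := (Nat.dvd_add_right (dvd_mul_of_dvd_right h 2)).1 h2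
  omega

theorem isPGroup_U : IsPGroup 3 d.U := IsPGroup.of_card d.card_U

theorem eq_one_of_mem_U_T {x : G} (hU : x ∈ d.U) (hT : x ∈ d.T) : x = 1 :=
  orderOf_eq_one_iff.1 (Nat.eq_one_of_dvd_coprimes (d.T_coprime.symm.pow_left k)
    (d.card_U ▸ d.U.orderOf_dvd_natCard hU) (d.T.orderOf_dvd_natCard hT))

theorem exists_mul {x : G} (hx : x ∈ d.U ⊔ d.T) : ∃ u ∈ d.U, ∃ c ∈ d.T, x = u * c := by
  rw [sup_comm] at hx
  exact (CfsgLib.Core.mem_sup_iff_mul' d.T_norm).1 hx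

theorem sup_le_normalizer : d.U ⊔ d.T ≤ normalizer (d.U : Set G) := sup_le le_normalizer d.T_norm

/-- The power of a product of an element of `U` and one of `T`. -/
theorem mul_pow_mem {u c : G} (hu : u ∈ d.U) (hc : c ∈ d.T) (n : ℕ) : (u * c) ^ n * (c ^ n)⁻¹ ∈ d.U := by
  induction n with
  | zero => simp
  | succ n ih =>
    have e : (u * c) ^ (n + 1) * (c ^ (n + 1))⁻¹ = ((u * c) ^ n * (c ^ n)⁻¹) * (c ^ n * u * (c ^ n)⁻¹) := by
      rw [pow_succ, pow_succ]; group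
    rw [e]
    exact mul_mem ih ((mem_normalizer_iff.1 (pow_mem (d.T_norm hc) n) u).1 hu)

theorem three_le_U {x : G} (hx : x ∈ d.U ⊔ d.T) (h3 : ∃ i : ℕ, x ^ 3 ^ i = 1) : x ∈ d.U := by
  obtain ⟨u, hu, c, hc, rfl⟩ := d.exists_mul hx
  obtain ⟨i, hi⟩ := h3
  have h1 := d.mul_pow_mem hu hc (3 ^ i)
  rw [hi, one_mul] at h1
  have h2 := d.eq_one_of_mem_U_T h1 (inv_mem (pow_mem hc _))
  rw [inv_eq_one] at h2
  have h3 : c = 1 := orderOf_eq_one_iff.1 (Nat.eq_one_of_dvd_coprimes (d.T_coprime.pow_right i)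
    (d.T.orderOf_dvd_natCard hc) (orderOf_dvd_of_pow_eq_one h2))
  rw [h3, mul_one]
  exact hu

theorem isPGroup_le_U {Q : Subgroup G} (hQ : IsPGroup 3 Q) (hQL : Q ≤ L) (hUQ : d.U ≤ Q) : Q = d.U := by
  refine le_antisymm (fun x hx => ?_) hUQ
  obtain ⟨j, hj⟩ := IsPGroup.iff_card.1 hQ
  refine d.three_le_U (d.odd_le Q hQL hUQ (hj ▸ (Odd.pow ⟨1, rfl⟩)) hx) ?_
  obtain ⟨i, hi⟩ := hQ ⟨x, hx⟩
  exact ⟨i, congrArg Subtype.val hi⟩

theorem mem_zpowers_a {c : G} (hc : c ∈ d.T) (hs : c ^ d.s = 1) : c ∈ zpowers d.a := by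
  classical
  by_contra hn
  haveI := d.T_cyclic
  haveI := Fintype.ofFinite d.T
  set a' : d.T := ⟨d.a, d.a_mem⟩ with ha'
  have hao : orderOf a' = d.s := by rw [ha', Subgroup.orderOf_mk, d.order_a]
  have h1 := IsCyclic.card_pow_eq_one_le (α := d.T) d.prime_s.pos
  have h2 : insert (⟨c, hc⟩ : d.T) ((Finset.range d.s).image (a' ^ ·)) ⊆
      Finset.univ.filter (fun x : d.T => x ^ d.s = 1) := by
    intro x hx
    rw [Finset.mem_filter]
    refine ⟨Finset.mem_univ _, ?_⟩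
    rcases Finset.mem_insert.1 hx with rfl | hx
    · exact Subtype.ext hs
    · obtain ⟨j, -, rfl⟩ := Finset.mem_image.1 hx
      rw [← pow_mul, mul_comm, pow_mul, ← hao, pow_orderOf_eq_one, one_pow]
  have h3 := Finset.card_le_card h2
  rw [Finset.card_insert_of_notMem, Finset.card_image_of_injOn, Finset.card_range] at h3
  · omega
  · intro i hi j hj hij
    exact pow_injOn_Iio_orderOf (hao.symm ▸ Finset.mem_range.1 hi) (hao.symm ▸ Finset.mem_range.1 hj) hij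
  · intro hm
    obtain ⟨j, -, hj⟩ := Finset.mem_image.1 hm
    exact hn ⟨(j : ℤ), (zpow_natCast d.a j).trans (congrArg Subtype.val hj)⟩

end Data

section

variable {t : G} {E : Subgroup G} {F : Type} [Field F] [Fintype F] (h : Setting t E L F) (d : Data L k)
include h

/-- An element of `E` normalising `U` maps `T` into `U T`. -/
theorem conj_T_le {c : G} (hc : c ∈ E) (hn : c ∈ normalizer (d.U : Set G)) {x : G} (hx : x ∈ d.T) :
    c * x * c⁻¹ ∈ d.U ⊔ d.T :=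
  d.normalizer_U <| Subgroup.mem_inf.2 ⟨(mem_normalizer_iff.1 (h.normal hc) x).1 (d.T_le hx),
    mul_mem (mul_mem hn (d.T_norm hx)) (inv_mem hn)⟩

/-- An element of `E` normalising `U` becomes a normaliser of `T` after correction by an element of `U`. -/
theorem exists_correct {c : G} (hc : c ∈ E) (hn : c ∈ normalizer (d.U : Set G)) :
    ∃ u ∈ d.U, u * c ∈ normalizer (d.T : Set G) := by
  set T' := d.T.map (MulAut.conj c).toMonoidHom
  have hT' : T' ≤ d.T ⊔ d.U := by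
    rintro _ ⟨x, hx, rfl⟩
    rw [sup_comm]
    exact conj_T_le h d hc hn hx
  obtain ⟨v, hv, he⟩ := CfsgLib.Core.exists_conj_eq_of_coprime d.T_norm hT'
    (card_map_of_injective (MulAut.conj c).injective) (d.card_U ▸ d.T_coprime.pow_right k)
    (Or.inr (haveI := d.T_cyclic; inferInstance))
  refine ⟨v⁻¹, inv_mem hv, mem_normalizer_of_conj_mem fun x hx => ?_⟩
  have h1 : c * x * c⁻¹ ∈ MulAut.conj v • d.T := he ▸ ⟨x, hx, rfl⟩
  rw [Subgroup.mem_pointwise_smul_iff_inv_smul_mem, MulAut.smul_def, ← map_inv, MulAut.conj_apply, inv_inv] at h1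
  convert h1 using 1
  group

/-- Only `U` centralises `U` in `E`. -/
theorem centralizer_U {c : G} (hc : c ∈ E) (hcU : ∀ x ∈ d.U, c * x = x * c) : c ∈ d.U := by
  have hn : c ∈ normalizer (d.U : Set G) := centralizer_le_normalizer _
    (mem_centralizer_iff.2 fun x hx => (hcU x hx).symm)
  obtain ⟨u, hu, hnT⟩ := exists_correct h d hc hn
  set g := u * c with hg
  have hgE : g ∈ E := mul_mem (h.le (d.U_le hu)) hc
  have hgU : ∀ x ∈ d.U, g * x = x * g := fun x hx => by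
    rw [hg, mul_assoc, hcU x hx, ← mul_assoc, d.U_comm u hu x hx, mul_assoc]
  have hgT : ∀ x ∈ d.T, g * x = x * g := by
    intro x hx
    obtain ⟨y, hy, hy1⟩ := d.exists_ne
    have h1 : x⁻¹ * (g * x * g⁻¹) ∈ d.T := mul_mem (inv_mem hx) ((mem_normalizer_iff.1 hnT x).1 hx)
    by_contra hne
    refine hy1 (d.free _ h1 (fun e => hne (mul_inv_eq_iff_eq_mul.1 (inv_mul_eq_one.1 e).symm)) y hy ?_)
    have h2 : x * y * x⁻¹ ∈ d.U := (mem_normalizer_iff.1 (d.T_norm hx) y).1 hy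
    have h3 : g⁻¹ * y = y * g⁻¹ := (eq_inv_mul_iff_mul_eq.2 (by
      rw [← mul_assoc, hgU y hy, mul_inv_cancel_right])).symm
    calc x⁻¹ * (g * x * g⁻¹) * y = x⁻¹ * g * x * (g⁻¹ * y) := by group
      _ = x⁻¹ * (g * (x * y * x⁻¹)) * x * g⁻¹ := by rw [h3]; group
      _ = x⁻¹ * ((x * y * x⁻¹) * g) * x * g⁻¹ := by rw [hgU _ h2]
      _ = y * (x⁻¹ * (g * x * g⁻¹)) := by group
  set w' := g * d.w * g⁻¹ with hw'
  have hwL : w' ∈ L := (mem_normalizer_iff.1 (h.normal hgE) _).1 d.w_mem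
  have hτL : w' * d.w ∈ L := mul_mem hwL d.w_mem
  have hτ : w' * d.w ∈ d.T := by
    refine d.cent_T d.a d.a_mem d.a_ne_one _ hτL ?_
    have hwi : d.w⁻¹ = d.w := inv_eq_of_mul_eq_one_right d.w_sq
    have h1 : d.w * d.a * d.w⁻¹ = d.a⁻¹ := d.w_inv _ d.a_mem
    have h2 : w' * d.a⁻¹ * w'⁻¹ = d.a := by
      have h4 : g⁻¹ * d.a⁻¹ * g = d.a⁻¹ := by
        rw [mul_assoc, ← hgT _ (inv_mem d.a_mem), ← mul_assoc, inv_mul_cancel, one_mul]
      calc w' * d.a⁻¹ * w'⁻¹ = g * (d.w * (g⁻¹ * d.a⁻¹ * g) * d.w⁻¹) * g⁻¹ := by rw [hw']; group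
        _ = g * d.a * g⁻¹ := by rw [h4, ← conj_inv, h1, inv_inv]
        _ = d.a := by rw [hgT _ d.a_mem, mul_inv_cancel_right]
    calc w' * d.w * d.a = w' * (d.w * d.a * d.w⁻¹) * d.w := by group
      _ = w' * d.a⁻¹ * w'⁻¹ * (w' * d.w) := by rw [h1]; group
      _ = d.a * (w' * d.w) := by rw [h2]
  have hτ1 : w' * d.w = 1 := by
    refine d.rigid _ hτ ?_
    have h1 : w' * d.w * d.w = w' := by rw [mul_assoc, d.w_sq, mul_one]
    have h2 : g * d.u₀ * g⁻¹ = d.u₀ := by rw [hgU _ d.u₀_mem, mul_inv_cancel_right]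
    rw [h1, ← h2, hw', conj_mul, conj_pow, d.rel, mul_one, mul_inv_cancel]
  have hgw : g * d.w = d.w * g := by
    have hww : w' = d.w := by
      rw [eq_inv_of_mul_eq_one_left hτ1, inv_eq_of_mul_eq_one_right d.w_sq]
    exact mul_inv_eq_iff_eq_mul.1 hww
  have hall : L ≤ centralizer ({g} : Set G) := d.gen _
    (fun x hx => mem_centralizer_singleton_iff.2 (hgU x hx).symm) d.w (mem_centralizer_singleton_iff.2 hgw.symm)
    d.w_mem d.w_not
  have h1 : g = 1 := h.cen g hgE fun y hy => (mem_centralizer_singleton_iff.1 (hall hy)).symm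
  rw [hg] at h1
  rw [eq_inv_of_mul_eq_one_right h1]
  exact inv_mem hu

/-- A 3-element of `N_E(U)` commuting with `a` lies in `U`. -/
theorem mem_U_of_commute {y : G} (hy : y ∈ E) (hn : y ∈ normalizer (d.U : Set G))
    (h3 : ∃ i : ℕ, y ^ 3 ^ i = 1) (hya : y * d.a = d.a * y) : y ∈ d.U := by
  haveI : Fact (Nat.Prime 3) := ⟨Nat.prime_three⟩
  obtain ⟨i, hi⟩ := h3
  set A := zpowers y
  have hAp : IsPGroup 3 A := by
    intro g
    obtain ⟨m, hm⟩ := mem_zpowers_iff.1 g.2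
    refine ⟨i, Subtype.ext ?_⟩
    rw [SubmonoidClass.coe_pow, ← hm, ← zpow_natCast (y ^ m), ← zpow_mul, mul_comm, zpow_mul, zpow_natCast, hi,
      one_zpow]
    rfl
  set X := d.U ⊓ centralizer ({y} : Set G) with hX
  have haX : d.a ∈ normalizer (X : Set G) := mem_normalizer_of_conj_mem fun x hx => by
    refine ⟨(mem_normalizer_iff.1 d.a_normalizes x).1 hx.1, mem_centralizer_singleton_iff.2 ?_⟩
    have hxy := mem_centralizer_singleton_iff.1 hx.2
    have hay : d.a⁻¹ * y = y * d.a⁻¹ := (eq_inv_mul_iff_mul_eq.2 (by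
      rw [← mul_assoc, ← hya, mul_inv_cancel_right])).symm
    calc d.a * x * d.a⁻¹ * y = d.a * x * (d.a⁻¹ * y) := by group
      _ = d.a * (x * y) * d.a⁻¹ := by rw [hay]; group
      _ = d.a * y * x * d.a⁻¹ := by rw [hxy]; group
      _ = y * (d.a * x * d.a⁻¹) := by rw [← hya]; group
  rcases d.irred X inf_le_left haX with e | e
  · exfalso
    letI : MulDistribMulAction A d.U := MulDistribMulAction.compHom d.U
      (Subgroup.inclusion (zpowers_le.2 hn) : A →* ↥(normalizer (d.U : Set G)))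
    have hfix : Nat.card (MulAction.fixedPoints A d.U) = 1 := by
      refine Nat.card_eq_one_iff_unique.2 ⟨⟨fun x x' => ?_⟩, ⟨⟨1, fun c => smul_one c⟩⟩⟩
      have h1 : ∀ x : MulAction.fixedPoints A d.U, ((x : d.U) : G) = 1 := fun x => by
        have h2 := congrArg Subtype.val (x.2 (⟨y, mem_zpowers y⟩ : A))
        change y * ((x : d.U) : G) * y⁻¹ = _ at h2
        have : ((x : d.U) : G) ∈ X :=
          ⟨(x : d.U).2, mem_centralizer_singleton_iff.2 (mul_inv_eq_iff_eq_mul.1 h2).symm⟩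
        rwa [e, mem_bot] at this
      exact Subtype.ext (Subtype.ext ((h1 x).trans (h1 x').symm))
    have hmod := hAp.card_modEq_card_fixedPoints d.U
    rw [hfix, d.card_U] at hmod
    have h3k : 3 ^ k % 3 = 0 := Nat.mod_eq_zero_of_dvd (dvd_pow_self 3 d.k_ne_zero)
    rw [Nat.ModEq, h3k] at hmod
    omega
  · exact centralizer_U h d hy fun x hx => (mem_centralizer_singleton_iff.1 (e.symm ▸ hx : x ∈ X).2).symm

/-- `N_E(U)` acts on `⟨a⟩` modulo `U`. -/
theorem scalar {c : G} (hc : c ∈ E) (hn : c ∈ normalizer (d.U : Set G)) :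
    ∃ u ∈ d.U, ∃ j : ℕ, c * d.a * c⁻¹ = u * d.a ^ j := by
  obtain ⟨u, hu, x, hx, e⟩ := d.exists_mul (conj_T_le h d hc hn d.a_mem)
  have h1 := d.mul_pow_mem hu hx d.s
  rw [← e, conj_pow, ← d.order_a, pow_orderOf_eq_one, mul_one, mul_inv_cancel, one_mul, d.order_a] at h1
  have h2 : x ^ d.s = 1 := inv_eq_one.1 (d.eq_one_of_mem_U_T h1 (inv_mem (pow_mem hx _)))
  obtain ⟨j, hj⟩ := mem_powers_iff_mem_zpowers.2 (d.mem_zpowers_a hx h2)
  exact ⟨u, hu, j, by rw [e, ← hj]⟩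

end

/-- The frame: a 3-element inducing a field automorphism. -/
structure Frame {t : G} {E : Subgroup G} {F : Type} [Field F] [Fintype F] (h : Setting t E L F) (d : Data L k) where
  z : G
  mem_E : z ∈ E
  not_L : z ∉ L
  three : ∃ i : ℕ, z ^ 3 ^ i = 1
  norm_U : z ∈ normalizer (d.U : Set G)
  norm_T : z ∈ normalizer (d.T : Set G)

theorem exists_frame {t : G} {E : Subgroup G} {F : Type} [Field F] [Fintype F] (h : Setting t E L F)
    (d : Data L k) (hn : 3 ∣ h.n) : Nonempty (Frame h d) := by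
  haveI : Fact (Nat.Prime 3) := ⟨Nat.prime_three⟩
  haveI := h.normal_subgroupOf
  obtain ⟨q, hq⟩ := exists_prime_orderOf_dvd_card' (G := ↥E ⧸ L.subgroupOf E) 3
    (Subgroup.index_eq_card (L.subgroupOf E) ▸ hn)
  obtain ⟨⟨y, hy⟩, rfl⟩ := QuotientGroup.mk'_surjective _ q
  -- Frattini
  obtain ⟨P₀, hP₀⟩ := (d.isPGroup_U.comap_of_injective L.subtype L.subtype_injective).exists_le_sylow
  have hP₀U : (P₀ : Subgroup L).map L.subtype = d.U := d.isPGroup_le_U (P₀.2.map _) (map_subtype_le _)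
    (fun x hx => ⟨⟨x, d.U_le hx⟩, hP₀ hx, rfl⟩)
  obtain ⟨l, hl⟩ := CfsgLib.Techniques.exists_conj_mem_sylow P₀
    ((d.isPGroup_U.map (MulAut.conj y).toMonoidHom).comap_of_injective L.subtype L.subtype_injective)
  set y₁ := (l : G) * y with hy₁
  have hy₁E : y₁ ∈ E := mul_mem (h.le l.2) hy
  have hy₁U : y₁ ∈ normalizer (d.U : Set G) := mem_normalizer_of_conj_mem fun x hx => by
    have hxL : y * x * y⁻¹ ∈ L := (mem_normalizer_iff.1 (h.normal hy) x).1 (d.U_le hx)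
    rw [← hP₀U]
    refine ⟨l * ⟨y * x * y⁻¹, hxL⟩ * l⁻¹, hl _ ⟨x, hx, rfl⟩, ?_⟩
    show (l : G) * (y * x * y⁻¹) * (l : G)⁻¹ = _
    rw [hy₁]; group
  obtain ⟨u, hu, hy₂T⟩ := exists_correct h d hy₁E hy₁U
  set y₂ := u * y₁ with hy₂
  have hy₂E : y₂ ∈ E := mul_mem (h.le (d.U_le hu)) hy₁E
  have hy₂U : y₂ ∈ normalizer (d.U : Set G) := mul_mem (le_normalizer hu) hy₁U
  have hcls : (QuotientGroup.mk' (L.subgroupOf E) ⟨y₂, hy₂E⟩) = QuotientGroup.mk' (L.subgroupOf E) ⟨y, hy⟩ := by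
    have : (⟨y₂, hy₂E⟩ : E) = ⟨u * l, mul_mem (h.le (d.U_le hu)) (h.le l.2)⟩ * ⟨y, hy⟩ :=
      Subtype.ext (by show y₂ = u * l * y; rw [hy₂, hy₁, mul_assoc])
    have h1 : QuotientGroup.mk' (L.subgroupOf E) ⟨u * l, mul_mem (h.le (d.U_le hu)) (h.le l.2)⟩ = 1 :=
      (QuotientGroup.eq_one_iff _).2 (mul_mem (d.U_le hu) l.2)
    rw [this, map_mul, h1, one_mul]
  rw [← hcls] at hq
  obtain ⟨i, m, hm, hym⟩ := Nat.exists_eq_pow_mul_and_not_dvd (orderOf_pos y₂).ne' 3 (by norm_num)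
  refine ⟨⟨y₂ ^ m, pow_mem hy₂E m, fun hz => hm ?_, ⟨i, ?_⟩, pow_mem hy₂U m, pow_mem hy₂T m⟩⟩
  · have h1 : (QuotientGroup.mk' (L.subgroupOf E) ⟨y₂, hy₂E⟩) ^ m = 1 := by
      rw [← map_pow]
      exact (QuotientGroup.eq_one_iff _).2 hz
    exact hq ▸ orderOf_dvd_of_pow_eq_one h1
  · rw [← pow_mul, mul_comm, ← hym, pow_orderOf_eq_one]

end CfsgLib.Walter.Field.Three
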