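import Cfsg.Agent.Lib.Recog.Walter.Field.Three.Local
import Cfsg.Agent.Lib.Recog.Walter.Field.CoreDef
import Cfsg.Agent.Lib.Core.HHCritical.PLengthExceptional
import Cfsg.Agent.Lib.Core.PLengthTwoMaximal
import Cfsg.Agent.Lib.Core.FPF

/-!
Owner: helper29. Walter, field part, `3 ∣ n`: the core configuration inside `N(Z(J(P)))`.

* `Local.false_of_commutes`: `t` is not central modulo a normal subgroup with fixed points in `U`;
* `Local.fixed_le_U`, `Local.fixed_eq_one`: fixed points of `t` on normal subgroups of `K`;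
* `centralizer_eq_T`: the fixed elements commuting with `a` form `T`;
* `false_of_core`: the core lemma contradicts `3 ∣ n`;
* `Setting.not_three_dvd_of_core`: the group half of "`3 ∤ n` in characteristic three".
-/

set_option autoImplicit false
set_option linter.style.haveILetI false
set_option linter.unusedSectionVars false

namespace CfsgLib.Walter.Field.Three

open Subgroup
open scoped Pointwise commutatorElement
open CfsgLib.Signalizer (involution_sq involution_ne_one)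

universe u

/-- An involution fixes a point of an invariant coset of an odd subgroup. -/
theorem exists_fixed {X : Type*} [Group X] [Finite X] {F : Subgroup X} (hodd : Odd (Nat.card F)) {s : X}
    (hs : s * s = 1) (hn : ∀ x ∈ F, s * x * s⁻¹ ∈ F) {k : X} (hk : s * k * s⁻¹ * k⁻¹ ∈ F) :
    ∃ c, c * k⁻¹ ∈ F ∧ c * s = s * c := by
  classical
  haveI := Fintype.ofFinite F
  haveI : Fact (Nat.Prime 2) := ⟨Nat.prime_two⟩
  let g : F → F := fun x => ⟨s * x * s⁻¹ * (s * k * s⁻¹ * k⁻¹), mul_mem (hn x x.2) hk⟩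
  have hg : ∀ x, g (g x) = x := fun x => Subtype.ext (by
    show s * (s * (x : X) * s⁻¹ * (s * k * s⁻¹ * k⁻¹)) * s⁻¹ * (s * k * s⁻¹ * k⁻¹) = x
    rw [inv_eq_of_mul_eq_one_right hs]
    calc s * (s * (x : X) * s * (s * k * s * k⁻¹)) * s * (s * k * s * k⁻¹)
        = (s * s) * x * (s * s) * (k * s * k⁻¹) * (s * s) * (k * s * k⁻¹) := by group
      _ = x * 1 * (k * s * k⁻¹) * 1 * (k * s * k⁻¹) := by rw [hs, one_mul]
      _ = x * (k * (s * s) * k⁻¹) := by group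
      _ = x := by rw [hs]; group)
  let σ : Equiv.Perm F := ⟨g, g, hg, hg⟩
  have h2 : ¬ 2 ∣ Fintype.card F := by
    rw [← Nat.card_eq_fintype_card, ← even_iff_two_dvd, Nat.not_even_iff_odd]
    exact hodd
  obtain ⟨x, hx⟩ := Equiv.Perm.exists_fixed_point_of_prime (p := 2) (n := 1) h2 (σ := σ)
    (Equiv.ext fun y => by
      rw [pow_one, pow_two]
      exact hg y)
  have hx' : s * (x : X) * s⁻¹ * (s * k * s⁻¹ * k⁻¹) = x := congrArg Subtype.val hx
  refine ⟨x * k, by rw [mul_inv_cancel_right]; exact x.2, ?_⟩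
  have h3 : s * ((x : X) * k) * s⁻¹ = x * k := by
    conv_rhs => rw [← hx']
    group
  exact (mul_inv_eq_iff_eq_mul.1 h3).symm

variable {G : Type u} [Group G] [Finite G] {t : G} {E L : Subgroup G} {F : Type} [Field F] [Fintype F] {k : ℕ}
  {h : Setting t E L F} {d : Data L k} {fr : Frame h d} (l : Local fr)

theorem tt {G : Type u} [Group G] {t : G} {E L : Subgroup G} {F : Type} [Field F] [Fintype F]
    (h : Setting t E L F) : t * t = 1 := involution_sq h.ord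

/-- The fixed elements of `K` commuting with `a` form `T`. -/
theorem centralizer_eq_T {y : G} (hy : y ∈ l.K) (hyt : y * t = t * y) (hya : y * d.a = d.a * y) : y ∈ d.T := by
  set Y := l.K ⊓ centralizer ({t} : Set G) ⊓ centralizer ({d.a} : Set G) with hY
  have hTY : d.T ≤ Y := fun x hx => Subgroup.mem_inf.2 ⟨Subgroup.mem_inf.2 ⟨l.T_le hx,
    mem_centralizer_singleton_iff.2 (h.comm (h.le (d.T_le hx)))⟩,
    mem_centralizer_singleton_iff.2 (by
      haveI := d.T_cyclic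
      exact congrArg Subtype.val ((IsCyclic.isMulCommutative (α := d.T)).is_comm.comm ⟨x, hx⟩ ⟨d.a, d.a_mem⟩))⟩
  have hYn : ∀ x ∈ Y, x ∈ E ∧ x ∈ normalizer (d.U : Set G) := fun x hx =>
    mem_normalizer_U (h := h) (d := d) l.odd l.U_le hx.1.1 (mem_centralizer_singleton_iff.1 hx.1.2)
  have hfree : ∀ x ∈ Y, x ≠ 1 → d.U ⊓ centralizer {x} = ⊥ := by
    intro x hx hx1
    have hxa := mem_centralizer_singleton_iff.1 hx.2
    have hn : d.a ∈ normalizer ((d.U ⊓ centralizer ({x} : Set G) : Subgroup G) : Set G) :=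
      mem_normalizer_of_conj_mem fun u hu => Subgroup.mem_inf.2
        ⟨(mem_normalizer_iff.1 d.a_normalizes u).1 hu.1,
          mul_mem (mul_mem (mem_centralizer_singleton_iff.2 hxa.symm) hu.2)
            (inv_mem (mem_centralizer_singleton_iff.2 hxa.symm))⟩
    refine (d.irred _ inf_le_left hn).resolve_right fun e => hx1 ?_
    have hxU : x ∈ d.U := centralizer_U h d (hYn x hx).1 fun u hu =>
      (mem_centralizer_singleton_iff.1 ((e.symm ▸ hu : u ∈ d.U ⊓ centralizer ({x} : Set G))).2).symm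
    exact d.free d.a d.a_mem d.a_ne_one x hxU hxa.symm
  have hdvd := CfsgLib.Core.FPF.card_dvd_pred (fun x hx => (hYn x hx).2 : Y ≤ normalizer (d.U : Set G)) hfree
  rw [d.card_U, show 3 ^ k - 1 = 2 * Nat.card d.T by have := d.T_card; omega] at hdvd
  have hodd : Odd (Nat.card Y) := CfsgLib.Bender.odd_of_le (inf_le_left.trans inf_le_left : Y ≤ l.K) l.odd
  have hle : Nat.card Y ≤ Nat.card d.T :=
    Nat.le_of_dvd Nat.card_pos ((Nat.coprime_two_right.2 hodd).dvd_of_dvd_mul_left hdvd)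
  rw [eq_of_le_of_card_ge hTY hle]
  exact Subgroup.mem_inf.2 ⟨Subgroup.mem_inf.2 ⟨hy, mem_centralizer_singleton_iff.2 hyt⟩,
    mem_centralizer_singleton_iff.2 hya⟩

namespace Local

variable {X : Subgroup G}

theorem mem_normalizer' {x : G} (hx : x ∈ l.K) (hxt : x * t = t * x) : x ∈ E ∧ x ∈ normalizer (d.U : Set G) :=
  mem_normalizer_U (h := h) (d := d) l.odd l.U_le hx hxt

theorem a_mem : d.a ∈ l.K := l.T_le d.a_mem

theorem a_comm (_l : Local fr) : d.a * t = t * d.a := h.comm (h.le (d.T_le d.a_mem))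

theorem t_not : t ∉ l.K := fun ht => by
  have h1 := l.K.orderOf_dvd_natCard ht
  rw [h.ord] at h1
  exact Nat.not_even_iff_odd.2 l.odd (even_iff_two_dvd.2 h1)

/-- The fixed points of `t` on a normal subgroup of `K` are in `U` if they are 3-elements. -/
theorem fixed_le_U (hX : X ≤ l.K) (hn : ∀ c ∈ l.K, ∀ x ∈ X, c * x * c⁻¹ ∈ X)
    (h3 : ∀ x ∈ X, x * t = t * x → ∃ i : ℕ, x ^ 3 ^ i = 1) {x : G} (hx : x ∈ X) (hxt : x * t = t * x) :
    x ∈ d.U := by
  obtain ⟨hxE, hxn⟩ := l.mem_normalizer' (hX hx) hxt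
  obtain ⟨u, hu, j, hj⟩ := scalar h d hxE hxn
  have hxC : x ∈ centralizer ({t} : Set G) := mem_centralizer_singleton_iff.2 hxt
  have haC : d.a ∈ centralizer ({t} : Set G) := mem_centralizer_singleton_iff.2 l.a_comm
  have hUT : x * d.a * x⁻¹ * d.a⁻¹ ∈ d.U ⊔ d.T := by
    rw [hj]
    exact mul_mem (mul_mem (mem_sup_left hu) (mem_sup_right (pow_mem d.a_mem j)))
      (inv_mem (mem_sup_right d.a_mem))
  have hmem : x * d.a * x⁻¹ * d.a⁻¹ ∈ X := by
    rw [show x * d.a * x⁻¹ * d.a⁻¹ = x * (d.a * x⁻¹ * d.a⁻¹) by group]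
    exact mul_mem hx (hn _ l.a_mem _ (inv_mem hx))
  have hU : x * d.a * x⁻¹ * d.a⁻¹ ∈ d.U := d.three_le_U hUT (h3 _ hmem
    (mem_centralizer_singleton_iff.1 (mul_mem (mul_mem (mul_mem hxC haC) (inv_mem hxC)) (inv_mem haC))))
  -- correct `x` to commute with `a`
  let f : d.U → d.U := fun v => ⟨(v : G)⁻¹ * (d.a * v * d.a⁻¹),
    mul_mem (inv_mem v.2) ((mem_normalizer_iff.1 d.a_normalizes v).1 v.2)⟩
  have hf : Function.Injective f := by
    intro v w hvw
    have h1 : (v : G)⁻¹ * (d.a * v * d.a⁻¹) = (w : G)⁻¹ * (d.a * w * d.a⁻¹) := congrArg Subtype.val hvw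
    refine Subtype.ext (mul_inv_eq_one.1 (d.free d.a d.a_mem d.a_ne_one _ (mul_mem v.2 (inv_mem w.2))
      (mul_inv_eq_iff_eq_mul.1 ?_)))
    calc d.a * ((v : G) * (w : G)⁻¹) * d.a⁻¹
        = (v : G) * ((v : G)⁻¹ * (d.a * v * d.a⁻¹)) * (d.a * (w : G)⁻¹ * d.a⁻¹) := by group
      _ = (v : G) * ((w : G)⁻¹ * (d.a * w * d.a⁻¹)) * (d.a * (w : G)⁻¹ * d.a⁻¹) := by rw [h1]
      _ = (v : G) * (w : G)⁻¹ := by group
  obtain ⟨⟨v, hv⟩, hvx⟩ := Finite.injective_iff_surjective.1 hf ⟨_, hU⟩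
  have hvx' : v⁻¹ * (d.a * v * d.a⁻¹) = x * d.a * x⁻¹ * d.a⁻¹ := congrArg Subtype.val hvx
  have hya : v * x * d.a = d.a * (v * x) := by
    calc v * x * d.a = v * (x * d.a * x⁻¹ * d.a⁻¹) * d.a * x := by group
      _ = v * (v⁻¹ * (d.a * v * d.a⁻¹)) * d.a * x := by rw [hvx']
      _ = d.a * (v * x) := by group
  have hvn : v ∈ normalizer (d.U : Set G) := le_normalizer hv
  obtain ⟨i, hi⟩ := h3 x hx hxt
  have h1 : (v * x) ^ 3 ^ i * (x ^ 3 ^ i)⁻¹ ∈ d.U := by
    have key : ∀ n : ℕ, (v * x) ^ n * (x ^ n)⁻¹ ∈ d.U := by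
      intro n
      induction n with
      | zero => simp
      | succ n ih =>
        have e : (v * x) ^ (n + 1) * (x ^ (n + 1))⁻¹ = ((v * x) ^ n * (x ^ n)⁻¹) * (x ^ n * v * (x ^ n)⁻¹) := by
          rw [pow_succ, pow_succ]; group
        rw [e]
        exact mul_mem ih ((mem_normalizer_iff.1 (pow_mem hxn n) v).1 hv)
    exact key _
  rw [hi, inv_one, mul_one] at h1
  have hy : v * x ∈ d.U := mem_U_of_commute h d (mul_mem (h.le (d.U_le hv)) hxE) (mul_mem hvn hxn)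
    ⟨i + 1, by rw [pow_succ, pow_mul]; exact d.U_cube _ h1⟩ hya
  simpa using mul_mem (inv_mem hv) hy

/-- A normal `3'`-subgroup of `K` has no fixed points. -/
theorem fixed_eq_one (hX : X ≤ l.K) (hn : ∀ c ∈ l.K, ∀ x ∈ X, c * x * c⁻¹ ∈ X)
    (hdis : ∀ x ∈ X, x ∈ d.U → x = 1) {x : G} (hx : x ∈ X) (hxt : x * t = t * x) : x = 1 := by
  obtain ⟨hxE, hxn⟩ := l.mem_normalizer' (hX hx) hxt
  refine hdis x hx (centralizer_U h d hxE fun u hu => ?_)
  have h1 := hdis (x * u * x⁻¹ * u⁻¹) (by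
    rw [show x * u * x⁻¹ * u⁻¹ = x * (u * x⁻¹ * u⁻¹) by group]
    exact mul_mem hx (hn u (l.U_le hu) _ (inv_mem hx)))
    (mul_mem ((mem_normalizer_iff.1 hxn u).1 hu) (inv_mem hu))
  rwa [mul_inv_eq_one, mul_inv_eq_iff_eq_mul] at h1

/-- `t` is not central modulo a normal subgroup with fixed points in `U`. -/
theorem false_of_commutes (hX : X ≤ l.K) (hn : ∀ c ∈ l.K, ∀ x ∈ X, c * x * c⁻¹ ∈ X)
    (ht : ∀ x ∈ X, t * x * t⁻¹ ∈ X) (hU : ∀ x ∈ X, x * t = t * x → x ∈ d.U)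
    (hcomm : ∀ c ∈ l.K, t * c * t⁻¹ * c⁻¹ ∈ X) : False := by
  classical
  haveI := Fact.mk d.prime_s
  have hodd : Odd (Nat.card X) := CfsgLib.Bender.odd_of_le hX l.odd
  let R : l.K → ZMod d.s → Prop := fun c z => ∃ y ∈ l.K, y * t = t * y ∧ y * (c : G)⁻¹ ∈ X ∧
    ∃ u ∈ d.U, ∃ j : ℕ, y * d.a * y⁻¹ = u * d.a ^ j ∧ z = (j : ZMod d.s)
  have hex : ∀ c, ∃ z, R c z := by
    intro c
    obtain ⟨y, hy, hyt⟩ := exists_fixed hodd (tt h) ht (hcomm c c.2)
    have hyK : y ∈ l.K := by simpa using mul_mem (hX hy) c.2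
    obtain ⟨hyE, hyn⟩ := l.mem_normalizer' hyK hyt
    obtain ⟨u, hu, j, hj⟩ := scalar h d hyE hyn
    exact ⟨j, y, hyK, hyt, hy, u, hu, j, hj, rfl⟩
  have huniq : ∀ c z z', R c z → R c z' → z = z' := by
    rintro c z z' ⟨y, hy, hyt, hyc, u, hu, i, hi, rfl⟩ ⟨y', hy', hyt', hyc', u', hu', j, hj, rfl⟩
    have h1 : y' * y⁻¹ ∈ d.U := by
      refine hU _ ?_ (mem_centralizer_singleton_iff.1 (mul_mem (mem_centralizer_singleton_iff.2 hyt')
        (inv_mem (mem_centralizer_singleton_iff.2 hyt))))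
      simpa [mul_assoc] using mul_mem hyc' (inv_mem hyc)
    set v := y' * y⁻¹ with hv
    have h2 : u' * d.a ^ j = v * u * (d.a ^ i * v⁻¹ * (d.a ^ i)⁻¹) * d.a ^ i := by
      rw [← hj]
      calc y' * d.a * y'⁻¹ = v * (y * d.a * y⁻¹) * v⁻¹ := by rw [hv]; group
        _ = _ := by rw [hi]; group
    have h3 : v * u * (d.a ^ i * v⁻¹ * (d.a ^ i)⁻¹) ∈ d.U := mul_mem (mul_mem h1 hu)
      ((mem_normalizer_iff.1 (pow_mem d.a_normalizes i) _).1 (inv_mem h1))
    set w := v * u * (d.a ^ i * v⁻¹ * (d.a ^ i)⁻¹) with hw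
    have h4 : w⁻¹ * u' = d.a ^ i * (d.a ^ j)⁻¹ := by
      calc w⁻¹ * u' = w⁻¹ * (u' * d.a ^ j) * (d.a ^ j)⁻¹ := by group
        _ = _ := by rw [h2]; group
    have h5 := d.eq_one_of_mem_U_T (h4 ▸ mul_mem (inv_mem h3) hu')
      (mul_mem (pow_mem d.a_mem i) (inv_mem (pow_mem d.a_mem j)))
    rw [mul_inv_eq_one, pow_inj_mod, d.order_a] at h5
    exact (ZMod.natCast_eq_natCast_iff' i j d.s).2 h5
  choose f hf using hex
  have hone : f 1 = 1 := huniq 1 _ _ (hf 1) ⟨1, one_mem _, by rw [one_mul, mul_one],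
    by simp, 1, one_mem _, 1, by simp, by simp⟩
  have hmul : ∀ b c, f (b * c) = f b * f c := by
    intro b c
    obtain ⟨y, hy, hyt, hyc, u, hu, i, hi, hfi⟩ := hf b
    obtain ⟨y', hy', hyt', hyc', u', hu', j, hj, hfj⟩ := hf c
    refine huniq _ _ _ (hf _) ⟨y * y', mul_mem hy hy', ?_, ?_, ?_⟩
    · exact mem_centralizer_singleton_iff.1 (mul_mem (mem_centralizer_singleton_iff.2 hyt)
        (mem_centralizer_singleton_iff.2 hyt'))
    · rw [Subgroup.coe_mul, show y * y' * ((b : G) * c)⁻¹ = y * (y' * (c : G)⁻¹) * y⁻¹ * (y * (b : G)⁻¹) by group]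
      exact mul_mem (hn y hy _ hyc') hyc
    · have h1 := d.mul_pow_mem hu (pow_mem d.a_mem i) j
      refine ⟨(y * u' * y⁻¹) * ((u * d.a ^ i) ^ j * ((d.a ^ i) ^ j)⁻¹), mul_mem ?_ h1, i * j, ?_, ?_⟩
      · exact (mem_normalizer_iff.1 (l.mem_normalizer' hy hyt).2 u').1 hu'
      · calc y * y' * d.a * (y * y')⁻¹ = y * (y' * d.a * y'⁻¹) * y⁻¹ := by group
          _ = y * u' * y⁻¹ * (y * d.a * y⁻¹) ^ j := by rw [hj, conj_pow]; group
          _ = _ := by rw [hi, ← pow_mul]; group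
      · rw [hfi, hfj, Nat.cast_mul]
  let φ : l.K →* ZMod d.s := { toFun := f, map_one' := hone, map_mul' := hmul }
  have hinv : ∀ c : l.K, φ.toHomUnits ⟨t * c * t⁻¹, l.conj_mem c.2⟩ = φ.toHomUnits c := by
    intro c
    refine Units.ext ?_
    show f _ = f c
    obtain ⟨y, hy, hyt, hyc, u, hu, i, hi, hfi⟩ := hf c
    refine huniq _ _ _ (hf _) ⟨y, hy, hyt, ?_, u, hu, i, hi, hfi⟩
    show y * (t * (c : G) * t⁻¹)⁻¹ ∈ X
    have h1 := ht _ hyc
    rw [show t * (y * (c : G)⁻¹) * t⁻¹ = (t * y) * ((c : G)⁻¹ * t⁻¹) by group, ← hyt] at h1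
    convert h1 using 1
    group
  have hz := congrArg Units.val (l.apply_z_eq_one φ.toHomUnits hinv)
  change f _ = 1 at hz
  obtain ⟨u, hu, j, hj⟩ := scalar h d fr.mem_E fr.norm_U
  have h1 : (1 : ZMod d.s) = (j : ZMod d.s) := by
    rw [← hz]
    exact huniq _ _ _ (hf _) ⟨fr.z, l.z_mem, h.comm fr.mem_E, by simp, u, hu, j, hj, rfl⟩
  have hzT : fr.z * d.a * fr.z⁻¹ ∈ d.T := (mem_normalizer_iff.1 fr.norm_T _).1 d.a_mem
  have hu1 : u = 1 := d.eq_one_of_mem_U_T hu (by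
    rw [show u = fr.z * d.a * fr.z⁻¹ * (d.a ^ j)⁻¹ by rw [hj]; group]
    exact mul_mem hzT (inv_mem (pow_mem d.a_mem j)))
  have haj : d.a ^ j = d.a := by
    conv_rhs => rw [← pow_one d.a]
    rw [pow_inj_mod, d.order_a]
    exact (ZMod.natCast_eq_natCast_iff' j 1 d.s).1 (by rw [← h1, Nat.cast_one])
  rw [hu1, one_mul, haj] at hj
  exact fr.not_L (d.U_le (mem_U_of_commute h d fr.mem_E fr.norm_U fr.three (mul_inv_eq_iff_eq_mul.1 hj)))

end Local

/-- The core lemma contradicts `3 ∣ n`. -/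
theorem false_of_core (l : Local fr)
    (hcore : ∀ (H V : Type u) [Group H] [AddCommGroup V] [Module (ZMod 3) V] [Finite H] [Finite V]
      (c : Core H V), c.Conclusion) : False := by
  classical
  haveI : Fact (Nat.Prime 3) := ⟨Nat.prime_three⟩
  haveI : Fact (Nat.Prime 2) := ⟨Nat.prime_two⟩
  set O := Cfsg.pPrimeCore 3 ↥l.M with hO
  haveI hOn : O.Normal := by
    haveI := CfsgLib.Core.characteristic_pPrimeCore 3 ↥l.M
    exact inferInstance
  haveI hKn : (l.K.subgroupOf l.M).Normal := (normal_subgroupOf_iff_le_normalizer l.K_le).2 l.norm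
  set t' : ↥l.M := ⟨t, l.t_mem⟩ with ht'
  have ht'2 : t' * t' = 1 := Subtype.ext (tt h)
  -- `O ∩ K`
  set O₀ := O.map l.M.subtype ⊓ l.K with hO₀
  have hO₀n : ∀ c ∈ l.K, ∀ x ∈ O₀, c * x * c⁻¹ ∈ O₀ := by
    rintro c hc _ ⟨⟨x, hx, rfl⟩, hxK⟩
    exact Subgroup.mem_inf.2 ⟨⟨⟨c, l.K_le hc⟩ * x * ⟨c, l.K_le hc⟩⁻¹, hOn.conj_mem x hx _, rfl⟩,
      mul_mem (mul_mem hc hxK) (inv_mem hc)⟩
  have hO₀fix : ∀ x ∈ O₀, x * t = t * x → x = 1 := fun x hx hxt =>
    l.fixed_eq_one inf_le_right hO₀n (fun y hy hyU => by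
      obtain ⟨⟨m, hm⟩, hmO, rfl⟩ := hy.1
      exact congrArg Subtype.val (mem_bot.1 ((CfsgLib.PLocal.disjoint_pPrime
        (P := d.U.subgroupOf l.M) (p := 3) (d.isPGroup_U.comap_of_injective _ l.M.subtype_injective)).le_bot
        ⟨hyU, hmO⟩))) hx hxt
  by_cases hOK : O ≤ l.K.subgroupOf l.M
  swap
  · -- `t ∈ O`
    obtain ⟨x, hxO, hxK⟩ := SetLike.not_le_iff_exists.1 hOK
    have htO : t' ∈ O := by
      have hxn : (t : G) * x ∈ l.K := (l.split _ x.2).resolve_left hxK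
      obtain ⟨i, m, hm, hxm⟩ := Nat.exists_eq_two_pow_mul_odd (orderOf_pos x).ne'
      have hy : orderOf (x ^ m) = 2 ^ i := by
        rw [orderOf_pow, hxm, Nat.gcd_eq_right (dvd_mul_left m (2 ^ i)), Nat.mul_div_cancel _ hm.pos]
      have hyK : ((x ^ m : ↥l.M) : G) ∉ l.K := by
        intro hmem
        obtain ⟨j, rfl⟩ := hm
        refine hxK ?_
        have h2 : x * x ∈ l.K.subgroupOf l.M := by
          have e : ((x * x : ↥l.M) : G) = (t * (t * x) * t⁻¹) * (t * x) := by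
            rw [Subgroup.coe_mul]
            have htt := tt h
            calc (x : G) * x = (t * t) * x * t⁻¹ * (t * x) := by rw [htt]; group
              _ = _ := by group
          show ((x * x : ↥l.M) : G) ∈ l.K
          rw [e]
          exact mul_mem (l.conj_mem hxn) hxn
        have h3 : (x * x) ^ j ∈ l.K.subgroupOf l.M := pow_mem h2 j
        rw [← pow_two, ← pow_mul] at h3
        have h4 := mul_mem (inv_mem h3) (show x ^ (2 * j + 1) ∈ l.K.subgroupOf l.M from hmem)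
        rwa [pow_succ, inv_mul_cancel_left] at h4
      set y := x ^ m with hyd
      have hyO : y ∈ O := pow_mem hxO m
      obtain ⟨S, hS⟩ := (IsPGroup.of_card (p := 2) (n := i) (G := zpowers y)
        (by rw [Nat.card_zpowers, hy])).exists_le_sylow
      obtain ⟨S', hS'⟩ := (S.2.map l.M.subtype).exists_le_sylow
      have hyy : y * y = 1 := Subtype.ext (Sections.jr_sq h.jr S' (hS' ⟨y, hS (mem_zpowers y), rfl⟩))
      set c : G := t * y with hc
      have hcK : c ∈ l.K := (l.split _ y.2).resolve_left hyK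
      have hyG : (y : G) = t * c := by rw [hc, ← mul_assoc, tt h, one_mul]
      have hyy' : (y : G) * y = 1 := congrArg Subtype.val hyy
      have hinv : t * c * t⁻¹ = c⁻¹ := by
        rw [hyG] at hyy'
        refine eq_inv_of_mul_eq_one_left ?_
        rw [inv_eq_of_mul_eq_one_right (tt h), ← hyy']
        group
      obtain ⟨e, he⟩ := mem_zpowers_iff.1 (mem_zpowers_sq (X := G) (x := c)
        (l.odd.of_dvd_nat (l.K.orderOf_dvd_natCard hcK)))
      set r := c ^ e with hr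
      have hrK : r ∈ l.K := zpow_mem hcK e
      have hrr : r * r = c := by
        rw [hr, ← Commute.mul_zpow (Commute.refl c) e]
        exact he
      have htr : t * r * t⁻¹ = r⁻¹ := by rw [hr, ← conj_zpow, hinv, inv_zpow]
      have hmem := hOn.conj_mem y hyO ⟨r, l.K_le hrK⟩
      have heq : (⟨r, l.K_le hrK⟩ : ↥l.M) * y * ⟨r, l.K_le hrK⟩⁻¹ = t' := by
        refine Subtype.ext ?_
        show r * (y : G) * r⁻¹ = t
        calc r * (y : G) * r⁻¹ = r * (t * (r * r)) * r⁻¹ := by rw [hrr, ← hyG]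
          _ = r * (t * r * t⁻¹) * t := by group
          _ = t := by rw [htr, mul_inv_cancel, one_mul]
      rwa [heq] at hmem
    refine l.false_of_commutes (X := O₀) inf_le_right hO₀n ?_ (fun y hy hyt => by
      rw [hO₀fix y hy hyt]; exact one_mem _) ?_
    · rintro _ ⟨⟨y, hy, rfl⟩, hyK⟩
      exact Subgroup.mem_inf.2 ⟨⟨t' * y * t'⁻¹, hOn.conj_mem y hy _, rfl⟩, l.conj_mem hyK⟩
    · intro c hc
      refine Subgroup.mem_inf.2 ⟨⟨t' * (⟨c, l.K_le hc⟩ * t'⁻¹ * ⟨c, l.K_le hc⟩⁻¹),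
        mul_mem htO (hOn.conj_mem _ (inv_mem htO) _), ?_⟩, mul_mem (l.conj_mem hc) (inv_mem hc)⟩
      show t * (c * t⁻¹ * c⁻¹) = t * c * t⁻¹ * c⁻¹
      group
  -- `O ≤ K`
  have hsol : Group.IsSolvable ↥l.M := by
    haveI : Group.IsSolvable ↥(l.K.subgroupOf l.M) := CfsgLib.OddLocal.FTFinal.odd_order_solvable (by
      rw [Nat.card_congr (subgroupOfEquivOfLe l.K_le).toEquiv]; exact l.odd)
    haveI : Group.IsSolvable (↥l.M ⧸ l.K.subgroupOf l.M) := by
      refine Group.isSolvable_of_comm fun a b => ?_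
      have hsq : ∀ q : ↥l.M ⧸ l.K.subgroupOf l.M, q * q = 1 := fun q => by
        obtain ⟨m, rfl⟩ := QuotientGroup.mk'_surjective _ q
        rw [← map_mul]
        refine (QuotientGroup.eq_one_iff _).2 ?_
        show (m : G) * m ∈ l.K
        rcases l.split m m.2 with hm | hm
        · exact mul_mem hm hm
        · have e : (m : G) * m = (t * (t * m) * t⁻¹) * (t * m) := by
            calc (m : G) * m = (t * t) * m * t⁻¹ * (t * m) := by rw [tt h]; group
              _ = _ := by group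
          rw [e]
          exact mul_mem (l.conj_mem hm) hm
      calc a * b = (a * b) * ((b * a) * (b * a)) := by rw [hsq, mul_one]
        _ = a * (b * b) * a * (b * a) := by group
        _ = b * a := by rw [hsq b, mul_one, hsq a, one_mul]
    exact Group.isSolvable_of_ker_le_range (l.K.subgroupOf l.M).subtype (QuotientGroup.mk' (l.K.subgroupOf l.M))
      (by rw [QuotientGroup.ker_mk', range_subtype])
  haveI := hsol
  have hO' : Cfsg.pPrimeCore 3 (↥l.M ⧸ O) = ⊥ := CfsgLib.Core.pPrimeCore_quotient_pPrimeCore 3 ↥l.M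
  obtain ⟨V, iV, iVf, r0, em, hV3, hr0, hem, hadd, hact⟩ := CfsgLib.Core.HHTop.frattini_rep
    (CfsgLib.Core.isPSolvable_of_isSolvable (inferInstance : Group.IsSolvable (↥l.M ⧸ O))) hO'
  haveI hFn : (Cfsg.pCore 3 (↥l.M ⧸ O)).Normal := CfsgLib.Core.normal_pCore 3 _
  set ψ := QuotientGroup.mk' O with hψ
  set π := (QuotientGroup.mk' (Cfsg.pCore 3 (↥l.M ⧸ O))).comp ψ with hπ
  have hπs : Function.Surjective π := (QuotientGroup.mk'_surjective _).comp (QuotientGroup.mk'_surjective _)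
  have hkerπ : ∀ x, x ∈ π.ker ↔ ψ x ∈ Cfsg.pCore 3 (↥l.M ⧸ O) := fun x => QuotientGroup.eq_one_iff _
  let φ : ↥l.M → V := fun x => if hx : ψ x ∈ Cfsg.pCore 3 (↥l.M ⧸ O) then em ⟨ψ x, hx⟩ else 0
  have hφ : ∀ x (hx : ψ x ∈ Cfsg.pCore 3 (↥l.M ⧸ O)), φ x = em ⟨ψ x, hx⟩ := fun x hx => dif_pos hx
  have hφadd : ∀ x ∈ π.ker, ∀ y ∈ π.ker, φ (x * y) = φ x + φ y := fun x hx y hy => by
    rw [hkerπ] at hx hy
    rw [hφ x hx, hφ y hy, hφ (x * y) (by rw [map_mul]; exact mul_mem hx hy), ← hadd]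
    exact congrArg em (Subtype.ext (map_mul ψ x y))
  have hφact : ∀ m, ∀ x ∈ π.ker, r0 (π m) (φ x) = φ (m * x * m⁻¹) := fun m x hx => by
    rw [hkerπ] at hx
    rw [hφ x hx, hφ (m * x * m⁻¹) (by rw [map_mul, map_mul, map_inv]; exact hFn.conj_mem _ hx _)]
    refine (hact (ψ m) ⟨ψ x, hx⟩).trans (congrArg em (Subtype.ext ?_))
    show ψ m * ψ x * (ψ m)⁻¹ = ψ (m * x * m⁻¹)
    rw [map_mul, map_mul, map_inv]
  have hφ1 : φ 1 = 0 := by
    have h1 := hφadd 1 (one_mem _) 1 (one_mem _)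
    rwa [mul_one, left_eq_add] at h1
  have hφs : ∀ v : V, ∃ x ∈ π.ker, φ x = v := fun v => by
    obtain ⟨⟨q, hq⟩, rfl⟩ := hem v
    obtain ⟨x, rfl⟩ := QuotientGroup.mk'_surjective O q
    exact ⟨x, (hkerπ x).2 hq, hφ x hq⟩
  -- `τ` is outside `K`
  set τ := π t' with hτ
  have hτK : τ ∉ (l.K.subgroupOf l.M).map π := by
    intro hm
    have h1 : τ = 1 := by
      refine CfsgLib.ZStar.eq_one_of_odd_of_sq ?_ (by rw [pow_two, hτ, ← map_mul, ht'2, map_one])
      refine (Odd.of_dvd_nat ?_ (((l.K.subgroupOf l.M).map π).orderOf_dvd_natCard hm))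
      refine Odd.of_dvd_nat ?_ (card_map_dvd _ _)
      rw [Nat.card_congr (subgroupOfEquivOfLe l.K_le).toEquiv]
      exact l.odd
    have h2 : ψ t' ∈ Cfsg.pCore 3 (↥l.M ⧸ O) := (hkerπ t').1 h1
    obtain ⟨i, hi⟩ := IsPGroup.iff_orderOf.1 (CfsgLib.Core.isPGroup_pCore 3 _) ⟨_, h2⟩
    rw [Subgroup.orderOf_mk] at hi
    have h3 : ψ t' = 1 := CfsgLib.ZStar.eq_one_of_odd_of_sq (hi ▸ Odd.pow ⟨1, rfl⟩)
      (by rw [pow_two, ← map_mul, ht'2, map_one])
    exact l.t_not (hOK ((QuotientGroup.eq_one_iff t').1 h3))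
  have hkerK : π.ker ≤ l.K.subgroupOf l.M := by
    intro x hx
    rcases l.split x x.2 with hm | hm
    · exact hm
    · refine absurd ⟨t' * x, hm, ?_⟩ hτK
      rw [map_mul, MonoidHom.mem_ker.1 hx, mul_one]
  set FG := π.ker.map l.M.subtype with hFG
  have hFK : FG ≤ l.K := by rintro _ ⟨x, hx, rfl⟩; exact hkerK hx
  have hFn' : ∀ m ∈ l.M, ∀ x ∈ FG, m * x * m⁻¹ ∈ FG := by
    rintro m hm _ ⟨x, hx, rfl⟩
    exact ⟨⟨m, hm⟩ * x * ⟨m, hm⟩⁻¹, (inferInstance : π.ker.Normal).conj_mem x hx _, rfl⟩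
  have hF3 : ∀ x ∈ FG, x * t = t * x → ∃ i : ℕ, x ^ 3 ^ i = 1 := by
    rintro _ ⟨x, hx, rfl⟩ hxt
    obtain ⟨i, hi⟩ := (CfsgLib.Core.isPGroup_pCore 3 (↥l.M ⧸ O)) ⟨ψ x, (hkerπ x).1 hx⟩
    have h1 : x ^ 3 ^ i ∈ O := (QuotientGroup.eq_one_iff _).1 (by
      have := congrArg Subtype.val hi
      rwa [SubmonoidClass.coe_pow, ← map_pow] at this)
    refine ⟨i, hO₀fix _ (Subgroup.mem_inf.2 ⟨⟨_, h1, map_pow l.M.subtype x _⟩,
      pow_mem (hFK ⟨x, hx, rfl⟩) _⟩) ?_⟩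
    exact (Commute.pow_left (hxt : Commute (l.M.subtype x) t) _).eq
  have hFU : ∀ x ∈ FG, x * t = t * x → x ∈ d.U := fun x hx hxt =>
    l.fixed_le_U hFK (fun c hc => hFn' c (l.K_le hc)) hF3 hx hxt
  -- the elements above zero
  let Φ : Subgroup ↥l.M :=
    { carrier := {x | x ∈ π.ker ∧ φ x = 0}
      one_mem' := ⟨one_mem _, hφ1⟩
      mul_mem' := fun {x y} hx hy => ⟨mul_mem hx.1 hy.1, by rw [hφadd x hx.1 y hy.1, hx.2, hy.2, add_zero]⟩
      inv_mem' := fun {x} hx => ⟨inv_mem hx.1, by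
        have h1 := hφadd x hx.1 x⁻¹ (inv_mem hx.1)
        rwa [mul_inv_cancel, hφ1, hx.2, zero_add, eq_comm] at h1⟩ }
  have hΦn : ∀ m : ↥l.M, ∀ x ∈ Φ, m * x * m⁻¹ ∈ Φ := fun m x hx =>
    ⟨(inferInstance : π.ker.Normal).conj_mem x hx.1 m, by rw [← hφact m x hx.1, hx.2, map_zero]⟩
  have hΦodd : Odd (Nat.card Φ) := by
    have h1 : Φ ≤ l.K.subgroupOf l.M := fun x hx => hkerK hx.1
    refine CfsgLib.Bender.odd_of_le h1 ?_
    rw [Nat.card_congr (subgroupOfEquivOfLe l.K_le).toEquiv]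
    exact l.odd
  have hfix : ∀ v : V, r0 τ v = v → ∃ u, ∃ hu : u ∈ d.U, ∃ hx : (⟨u, l.K_le (l.U_le hu)⟩ : ↥l.M) ∈ π.ker,
      φ ⟨u, l.K_le (l.U_le hu)⟩ = v := by
    intro v hv
    obtain ⟨x, hx, rfl⟩ := hφs v
    have hD : t' * x * t'⁻¹ * x⁻¹ ∈ Φ := by
      have h1 : t' * x * t'⁻¹ ∈ π.ker := (inferInstance : π.ker.Normal).conj_mem x hx t'
      refine ⟨mul_mem h1 (inv_mem hx), ?_⟩
      have h2 := hφadd _ (mul_mem h1 (inv_mem hx)) x hx
      rw [inv_mul_cancel_right, ← hφact t' x hx, ← hτ, hv, right_eq_add] at h2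
      exact h2
    obtain ⟨c, hc, hct⟩ := exists_fixed hΦodd ht'2 (hΦn t') hD
    have hck : c ∈ π.ker := by simpa using mul_mem hc.1 hx
    have hcU : (c : G) ∈ d.U := hFU _ ⟨c, hck, rfl⟩ (congrArg Subtype.val hct)
    refine ⟨c, hcU, hck, ?_⟩
    have h2 := hφadd _ hc.1 x hx
    rw [inv_mul_cancel_right, hc.2, zero_add] at h2
    exact h2
  by_cases hzero : ∀ v : V, r0 τ v = v → v = 0
  · -- `τ` is `-1`
    have hneg : ∀ v : V, r0 τ v = -v := fun v => by
      refine eq_neg_of_add_eq_zero_right (hzero (v + r0 τ v) ?_)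
      rw [map_add, show r0 τ (r0 τ v) = (r0 τ * r0 τ) v from rfl, ← map_mul, hτ, ← map_mul, ht'2, map_one,
        map_one, add_comm]
      rfl
    refine l.false_of_commutes hFK (fun c hc => hFn' c (l.K_le hc)) (hFn' t l.t_mem) hFU fun c hc => ?_
    refine ⟨t' * ⟨c, l.K_le hc⟩ * t'⁻¹ * ⟨c, l.K_le hc⟩⁻¹, ?_, rfl⟩
    rw [SetLike.mem_coe, MonoidHom.mem_ker, map_mul, map_mul, map_mul, map_inv, map_inv, mul_inv_eq_one,
      mul_inv_eq_iff_eq_mul]
    apply hr0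
    rw [map_mul, map_mul]
    ext v
    show r0 τ (r0 (π ⟨c, l.K_le hc⟩) v) = r0 (π ⟨c, l.K_le hc⟩) (r0 τ v)
    rw [hneg, hneg, map_neg]
  -- the fixed space is the image of `U`
  obtain ⟨hUker, hUinj⟩ : (∀ u (hu : u ∈ d.U), (⟨u, l.K_le (l.U_le hu)⟩ : ↥l.M) ∈ π.ker) ∧
      ∀ u (hu : u ∈ d.U), φ ⟨u, l.K_le (l.U_le hu)⟩ = 0 → u = 1 := by
    push Not at hzero
    obtain ⟨v, hv, hv0⟩ := hzero
    obtain ⟨u, hu, hx, rfl⟩ := hfix v hv
    have hu1 : u ≠ 1 := fun e => hv0 (by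
      rw [show (⟨u, l.K_le (l.U_le hu)⟩ : ↥l.M) = 1 from Subtype.ext e, hφ1])
    have haM : d.a ∈ l.M := l.K_le l.a_mem
    have han : ∀ y ∈ d.U, d.a * y * d.a⁻¹ ∈ d.U := fun y hy => (mem_normalizer_iff.1 d.a_normalizes y).1 hy
    have hU : d.U ⊓ FG = d.U := by
      refine (d.irred _ inf_le_left (mem_normalizer_of_conj_mem fun y hy => Subgroup.mem_inf.2
        ⟨han y hy.1, hFn' _ haM y hy.2⟩)).resolve_left fun e => hu1 ?_
      exact mem_bot.1 (e ▸ Subgroup.mem_inf.2 ⟨hu, ⟨_, hx, rfl⟩⟩)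
    have hker : ∀ u (hu : u ∈ d.U), (⟨u, l.K_le (l.U_le hu)⟩ : ↥l.M) ∈ π.ker := fun y hy => by
      obtain ⟨⟨z, hz⟩, hzk, rfl⟩ := (inf_eq_left.1 hU) hy
      exact hzk
    have hne : d.U ⊓ Φ.map l.M.subtype = ⊥ := by
      refine (d.irred _ inf_le_left (mem_normalizer_of_conj_mem fun y hy => ?_)).resolve_right fun e => hv0 ?_
      · obtain ⟨z, hz, hzy⟩ := hy.2
        exact Subgroup.mem_inf.2 ⟨han y hy.1, ⟨_, hΦn ⟨d.a, haM⟩ z hz, by
          show d.a * (z : G) * d.a⁻¹ = d.a * y * d.a⁻¹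
          rw [show (z : G) = y from hzy]⟩⟩
      · obtain ⟨⟨z, hz⟩, hzΦ, rfl⟩ := (inf_eq_left.1 e) hu
        exact hzΦ.2
    refine ⟨hker, fun y hy hy0 => mem_bot.1 (hne ▸ Subgroup.mem_inf.2 ⟨hy, ⟨_, ⟨hker y hy, hy0⟩, rfl⟩⟩)⟩
  letI : Module (ZMod 3) V := AddCommGroup.zmodModule hV3
  let ρ : Representation (ZMod 3) ((↥l.M ⧸ O) ⧸ Cfsg.pCore 3 (↥l.M ⧸ O)) V :=
    { toFun := fun g => AddMonoidHom.toZModLinearMap 3 (r0 g : V →+ V)
      map_one' := LinearMap.ext fun v => by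
        show r0 1 v = v
        rw [map_one]; rfl
      map_mul' := fun g g' => LinearMap.ext fun v => by
        show r0 (g * g') v = r0 g (r0 g' v)
        rw [map_mul]; rfl }
  let ι : d.U → ↥l.M := fun u => ⟨u, l.K_le (l.U_le u.2)⟩
  have hιfix : ∀ u : d.U, r0 τ (φ (ι u)) = φ (ι u) := fun u => by
    rw [hτ, hφact t' (ι u) (hUker u u.2)]
    refine congrArg φ (Subtype.ext ?_)
    show t * (u : G) * t⁻¹ = u
    rw [← h.comm (h.le (d.U_le u.2)), mul_inv_cancel_right]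
  have hιinj : ∀ u u' : d.U, φ (ι u) = φ (ι u') → u = u' := fun u u' e => by
    refine Subtype.ext (mul_inv_eq_one.1 (hUinj _ (mul_mem u.2 (inv_mem u'.2)) ?_))
    have h1 := hφadd _ (hUker _ (mul_mem u.2 (inv_mem u'.2))) (ι u') (hUker u' u'.2)
    rw [show (⟨(u : G) * (u' : G)⁻¹, _⟩ : ↥l.M) * ι u' = ι u from
      Subtype.ext (inv_mul_cancel_right _ _), e, right_eq_add] at h1
    exact h1
  have hιsurj : ∀ v : V, r0 τ v = v → ∃ u : d.U, φ (ι u) = v := fun v hv => by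
    obtain ⟨u, hu, -, e⟩ := hfix v hv
    exact ⟨⟨u, hu⟩, e⟩
  have hιconj : ∀ (m : ↥l.M) (u u' : d.U), (m : G) * u * (m : G)⁻¹ = u' →
      r0 (π m) (φ (ι u)) = φ (ι u') := fun m u u' e => by
    rw [hφact m (ι u) (hUker u u.2)]
    exact congrArg φ (Subtype.ext e)
  set K₁ := (l.K.subgroupOf l.M).map π with hK₁
  have hK₁n : K₁.Normal := hKn.map π hπs
  set a₁ : ↥l.M := ⟨d.a, l.K_le l.a_mem⟩ with ha₁
  have hlift : ∀ c ∈ K₁, c * τ = τ * c → ∃ y : ↥l.M, (y : G) ∈ l.K ∧ (y : G) * t = t * y ∧ π y = c := by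
    rintro _ ⟨x, hx, rfl⟩ hc
    have hkerodd : Odd (Nat.card π.ker) := by
      refine CfsgLib.Bender.odd_of_le hkerK ?_
      rw [Nat.card_congr (subgroupOfEquivOfLe l.K_le).toEquiv]
      exact l.odd
    obtain ⟨y, hy, hyt⟩ := exists_fixed hkerodd ht'2
      (fun z hz => (inferInstance : π.ker.Normal).conj_mem z hz t')
      (k := x) (by rw [MonoidHom.mem_ker, map_mul, map_mul, map_mul, map_inv, map_inv, mul_inv_eq_one,
        mul_inv_eq_iff_eq_mul]; exact hc.symm)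
    refine ⟨y, ?_, congrArg Subtype.val hyt, ?_⟩
    · have h1 : y ∈ l.K.subgroupOf l.M := by simpa using mul_mem (hkerK hy) hx
      exact h1
    · rw [MonoidHom.mem_ker, map_mul, map_inv, mul_inv_eq_one] at hy
      exact hy
  have hfixker : ∀ y : ↥l.M, y ∈ π.ker → (y : G) * t = t * y → (y : G) ∈ d.U := fun y hy hyt =>
    hFU _ ⟨y, hy, rfl⟩ hyt
  have hnz : π (⟨fr.z, l.K_le l.z_mem⟩ * a₁ * ⟨fr.z, l.K_le l.z_mem⟩⁻¹) ≠ π a₁ := by
    intro e
    have hk : (⟨fr.z, l.K_le l.z_mem⟩ * a₁ * ⟨fr.z, l.K_le l.z_mem⟩⁻¹ * a₁⁻¹ : ↥l.M) ∈ π.ker := by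
      rw [MonoidHom.mem_ker, map_mul _ _ (a₁⁻¹), map_inv, e, mul_inv_cancel]
    have hzC : fr.z ∈ centralizer ({t} : Set G) := mem_centralizer_singleton_iff.2 (h.comm fr.mem_E)
    have haC : d.a ∈ centralizer ({t} : Set G) := mem_centralizer_singleton_iff.2 l.a_comm
    have h1 := hfixker _ hk (mem_centralizer_singleton_iff.1
      (mul_mem (mul_mem (mul_mem hzC haC) (inv_mem hzC)) (inv_mem haC)))
    have h2 : fr.z * d.a * fr.z⁻¹ * d.a⁻¹ = 1 := d.eq_one_of_mem_U_T h1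
      (mul_mem ((mem_normalizer_iff.1 fr.norm_T _).1 d.a_mem) (inv_mem d.a_mem))
    rw [mul_inv_eq_one, mul_inv_eq_iff_eq_mul] at h2
    exact fr.not_L (d.U_le (mem_U_of_commute h d fr.mem_E fr.norm_U fr.three h2))
  have ha1 : π a₁ ≠ 1 := fun e => d.a_ne_one
    (d.eq_one_of_mem_U_T (hfixker a₁ e l.a_comm) d.a_mem)
  set T₁ := K₁ ⊓ centralizer ({τ} : Set _) ⊓ centralizer ({π a₁} : Set _) with hT₁
  have hT₁le : ∀ c ∈ T₁, ∃ y : ↥l.M, (y : G) ∈ d.T ∧ π y = c := by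
    intro c hc
    obtain ⟨y, hyK, hyt, rfl⟩ := hlift c hc.1.1 (mem_centralizer_singleton_iff.1 hc.1.2)
    obtain ⟨hyE, hyn⟩ := l.mem_normalizer' hyK hyt
    have hk : y * a₁ * y⁻¹ * a₁⁻¹ ∈ π.ker := by
      rw [MonoidHom.mem_ker, map_mul, map_mul, map_mul, map_inv, map_inv, mul_inv_eq_one,
        mul_inv_eq_iff_eq_mul]
      exact mem_centralizer_singleton_iff.1 hc.2
    have hyC : (y : G) ∈ centralizer ({t} : Set G) := mem_centralizer_singleton_iff.2 hyt
    have haC : d.a ∈ centralizer ({t} : Set G) := mem_centralizer_singleton_iff.2 l.a_comm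
    have hw := hfixker _ hk (mem_centralizer_singleton_iff.1
      (mul_mem (mul_mem (mul_mem hyC haC) (inv_mem hyC)) (inv_mem haC)))
    set w := (y : G) * d.a * (y : G)⁻¹ * d.a⁻¹ with hwd
    let f : d.U → d.U := fun v => ⟨(v : G)⁻¹ * (d.a * v * d.a⁻¹),
      mul_mem (inv_mem v.2) ((mem_normalizer_iff.1 d.a_normalizes v).1 v.2)⟩
    have hf : Function.Injective f := by
      intro v v' hvv
      have h1 : (v : G)⁻¹ * (d.a * v * d.a⁻¹) = (v' : G)⁻¹ * (d.a * v' * d.a⁻¹) := congrArg Subtype.val hvv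
      refine Subtype.ext (mul_inv_eq_one.1 (d.free d.a d.a_mem d.a_ne_one _ (mul_mem v.2 (inv_mem v'.2))
        (mul_inv_eq_iff_eq_mul.1 ?_)))
      calc d.a * ((v : G) * (v' : G)⁻¹) * d.a⁻¹
          = (v : G) * ((v : G)⁻¹ * (d.a * v * d.a⁻¹)) * (d.a * (v' : G)⁻¹ * d.a⁻¹) := by group
        _ = (v : G) * ((v' : G)⁻¹ * (d.a * v' * d.a⁻¹)) * (d.a * (v' : G)⁻¹ * d.a⁻¹) := by rw [h1]
        _ = (v : G) * (v' : G)⁻¹ := by group
    obtain ⟨⟨v, hv⟩, hvx⟩ := Finite.injective_iff_surjective.1 hf ⟨_, hw⟩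
    have hvx' : v⁻¹ * (d.a * v * d.a⁻¹) = w := congrArg Subtype.val hvx
    have hya : v * (y : G) * d.a = d.a * (v * y) := by
      calc v * (y : G) * d.a = v * w * d.a * y := by rw [hwd]; group
        _ = d.a * (v * y) := by rw [← hvx']; group
    refine ⟨⟨v, l.K_le (l.U_le hv)⟩ * y, centralizer_eq_T l (mul_mem (l.U_le hv) hyK) ?_ hya, ?_⟩
    · exact mem_centralizer_singleton_iff.1 (mul_mem
        (mem_centralizer_singleton_iff.2 (h.comm (h.le (d.U_le hv)))) hyC)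
    · rw [map_mul, MonoidHom.mem_ker.1 (hUker v hv), one_mul]
  obtain ⟨A, _, f, hf, hfz⟩ := hcore _ V
    { ρ := ρ
      faithful := fun g g' e => hr0 (DFunLike.ext (r0 g) (r0 g') fun v => LinearMap.congr_fun e v)
      K := K₁
      normal := hK₁n
      odd := Odd.of_dvd_nat (by rw [Nat.card_congr (subgroupOfEquivOfLe l.K_le).toEquiv]; exact l.odd)
        (card_map_dvd _ _)
      core_three := fun Q _ hQn hQ => by
        haveI := hQn
        exact le_bot_iff.1 ((CfsgLib.Core.le_pCore hQ).trans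
          (CfsgLib.Core.pCore_quotient_pCore 3 (↥l.M ⧸ O)).le)
      τ := τ
      τ_sq := by rw [hτ, ← map_mul, ht'2, map_one]
      τ_not := hτK
      k := k
      card_fixed := by
        rw [← d.card_U]
        refine (Nat.card_congr (Equiv.ofBijective (fun u : d.U => (⟨φ (ι u), hιfix u⟩ : {v : V // ρ τ v = v}))
          ⟨fun u u' e => hιinj u u' (congrArg Subtype.val e), fun v => ?_⟩)).symm
        obtain ⟨u, hu⟩ := hιsurj v.1 v.2
        exact ⟨u, Subtype.ext hu⟩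
      a := π a₁
      a_mem := mem_map_of_mem π l.a_mem
      a_τ := by
        rw [hτ, ← map_mul, ← map_mul]
        exact congrArg π (Subtype.ext l.a_comm)
      s := d.s
      prime_s := d.prime_s
      big := d.big
      order_a := by
        haveI := Fact.mk d.prime_s
        refine orderOf_eq_prime ?_ ha1
        rw [← map_pow, show a₁ ^ d.s = 1 from Subtype.ext (by
          rw [SubmonoidClass.coe_pow, ← d.order_a]; exact pow_orderOf_eq_one _), map_one]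
      a_free := fun v hv hav => by
        obtain ⟨u, rfl⟩ := hιsurj v hv
        have h1 := hιconj a₁ u ⟨_, (mem_normalizer_iff.1 d.a_normalizes u).1 u.2⟩ rfl
        have h2 := hιinj _ _ (h1.symm.trans hav)
        have h3 : d.a * (u : G) * d.a⁻¹ = u := congrArg Subtype.val h2
        have h4 := d.free d.a d.a_mem d.a_ne_one u u.2 (mul_inv_eq_iff_eq_mul.1 h3)
        rw [show ι u = 1 from Subtype.ext h4, hφ1]
      a_irred := fun X hXfix hXa => by
        let Y : Subgroup G :=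
          { carrier := {u | ∃ hu : u ∈ d.U, φ (ι ⟨u, hu⟩) ∈ X}
            one_mem' := ⟨one_mem _, by rw [show ι ⟨1, one_mem _⟩ = 1 from rfl, hφ1]; exact X.zero_mem⟩
            mul_mem' := fun {u u'} ⟨hu, hu2⟩ ⟨hu', hu2'⟩ => ⟨mul_mem hu hu', by
              rw [show ι ⟨u * u', mul_mem hu hu'⟩ = ι ⟨u, hu⟩ * ι ⟨u', hu'⟩ from rfl,
                hφadd _ (hUker u hu) _ (hUker u' hu')]
              exact X.add_mem hu2 hu2'⟩
            inv_mem' := fun {u} ⟨hu, hu2⟩ => ⟨inv_mem hu, by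
              have h1 := hφadd _ (hUker u hu) _ (inv_mem (hUker u hu))
              rw [mul_inv_cancel, hφ1] at h1
              rw [show ι ⟨u⁻¹, inv_mem hu⟩ = (ι ⟨u, hu⟩)⁻¹ from rfl, eq_neg_of_add_eq_zero_right h1.symm]
              exact X.neg_mem hu2⟩ }
        have hYU : Y ≤ d.U := fun u hu => hu.1
        have hYa : d.a ∈ normalizer (Y : Set G) := mem_normalizer_of_conj_mem fun u hu => by
          obtain ⟨hu, hu2⟩ := hu
          refine ⟨(mem_normalizer_iff.1 d.a_normalizes u).1 hu, ?_⟩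
          rw [← hιconj a₁ ⟨u, hu⟩ ⟨_, (mem_normalizer_iff.1 d.a_normalizes u).1 hu⟩ rfl]
          exact hXa _ hu2
        rcases d.irred Y hYU hYa with e | e
        · refine Or.inl ((Submodule.eq_bot_iff X).2 fun v hv => ?_)
          obtain ⟨u, rfl⟩ := hιsurj v (hXfix v hv)
          have h1 : (u : G) ∈ Y := ⟨u.2, hv⟩
          rw [e, mem_bot] at h1
          rw [show ι u = 1 from Subtype.ext h1, hφ1]
        · refine Or.inr fun v hv => ?_
          obtain ⟨u, rfl⟩ := hιsurj v hv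
          obtain ⟨_, h1⟩ : (u : G) ∈ Y := e.symm ▸ u.2
          exact h1
      T := T₁
      T_eq := fun c => by
        rw [hT₁, Subgroup.mem_inf, Subgroup.mem_inf, mem_centralizer_singleton_iff,
          mem_centralizer_singleton_iff, and_assoc]
      T_cyclic := by
        haveI := d.T_cyclic
        haveI : IsCyclic ↥(d.T.subgroupOf l.M) :=
          isCyclic_of_surjective (subgroupOfEquivOfLe (l.T_le.trans l.K_le)).symm.toMonoidHom
            (MulEquiv.surjective _)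
        haveI : IsCyclic ↥((d.T.subgroupOf l.M).map π) :=
          isCyclic_of_surjective (π.subgroupMap _) (π.subgroupMap_surjective _)
        exact isCyclic_of_injective (Subgroup.inclusion (fun c hc => by
          obtain ⟨y, hy, rfl⟩ := hT₁le c hc
          exact mem_map_of_mem π hy : T₁ ≤ (d.T.subgroupOf l.M).map π)) (inclusion_injective _)
      T_free := fun c hc hc1 v hv hcv => by
        obtain ⟨y, hy, rfl⟩ := hT₁le c hc
        obtain ⟨u, rfl⟩ := hιsurj v hv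
        have h1 := hιconj y u ⟨_, (mem_normalizer_iff.1 (d.T_norm hy) u).1 u.2⟩ rfl
        have h3 : (y : G) * (u : G) * (y : G)⁻¹ = u := congrArg Subtype.val (hιinj _ _ (h1.symm.trans hcv))
        have h4 := d.free y hy (fun e => hc1 (by rw [show y = 1 from Subtype.ext e, map_one])) u u.2
          (mul_inv_eq_iff_eq_mul.1 h3)
        rw [show ι u = 1 from Subtype.ext h4, hφ1]
      fixed_norm := fun c hc hcτ => by
        obtain ⟨y, hyK, hyt, rfl⟩ := hlift c hc hcτ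
        obtain ⟨hyE, hyn⟩ := l.mem_normalizer' hyK hyt
        obtain ⟨u, hu, j, hj⟩ := scalar h d hyE hyn
        refine ⟨(j : ℤ), ?_⟩
        show π a₁ ^ (j : ℤ) = _
        rw [zpow_natCast, ← map_inv, ← map_mul, ← map_mul,
          show y * a₁ * y⁻¹ = ⟨u, l.K_le (l.U_le hu)⟩ * a₁ ^ j from Subtype.ext hj, map_mul,
          MonoidHom.mem_ker.1 (hUker u hu), one_mul, map_pow]
      z := π ⟨fr.z, l.K_le l.z_mem⟩
      z_mem := mem_map_of_mem π l.z_mem
      z_τ := by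
        rw [hτ, ← map_mul, ← map_mul]
        exact congrArg π (Subtype.ext (h.comm fr.mem_E))
      z_three := by
        obtain ⟨i, hi⟩ := fr.three
        exact ⟨i, by rw [← map_pow, show (⟨fr.z, l.K_le l.z_mem⟩ : ↥l.M) ^ 3 ^ i = 1 from Subtype.ext hi, map_one]⟩
      z_moves := by rw [← map_inv, ← map_mul, ← map_mul]; exact hnz }
  let g : l.K →* A := f.comp
    { toFun := fun x => ⟨π ⟨x, l.K_le x.2⟩, mem_map_of_mem π x.2⟩
      map_one' := Subtype.ext (map_one π)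
      map_mul' := fun x y => Subtype.ext (map_mul π ⟨x, l.K_le x.2⟩ ⟨y, l.K_le y.2⟩) }
  refine hfz (l.apply_z_eq_one g fun x => ?_)
  refine Eq.trans (congrArg f (Subtype.ext ?_)) (hf ⟨π ⟨x, l.K_le x.2⟩, mem_map_of_mem π x.2⟩)
  show π (t' * ⟨x, l.K_le x.2⟩ * t'⁻¹) = τ * π ⟨x, l.K_le x.2⟩ * τ⁻¹
  rw [map_mul, map_mul, map_inv]

end CfsgLib.Walter.Field.Three

namespace CfsgLib.Walter.Field

universe u

/-- **The group half of `3 ∤ n` in characteristic three.** -/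
theorem Setting.not_three_dvd_of_core {G : Type u} [Group G] [Finite G] {t : G} {E L : Subgroup G} {F : Type}
    [Field F] [Fintype F] [CharP F 3] (h : Setting t E L F)
    (hcore : ∀ (H V : Type u) [Group H] [AddCommGroup V] [Module (ZMod 3) V] [Finite H] [Finite V]
      (c : Core H V), c.Conclusion) : ¬ 3 ∣ h.n := by
  intro hn
  obtain ⟨k, -, -, ⟨d⟩⟩ := Three.exists_data h
  obtain ⟨fr⟩ := Three.exists_frame h d hn
  obtain ⟨l⟩ := Three.exists_local fr
  exact Three.false_of_core l hcore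

end CfsgLib.Walter.Field
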