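import Cfsg.Agent.Lib.Recog.Walter.Field.Three.Frame
import Cfsg.Agent.Lib.LocalEvenB.StronglyClosedQd
import Cfsg.Agent.Lib.Bender.Gen.NoMoveZJ
import Cfsg.Agent.Lib.LocalEven.Generation
import Cfsg.Agent.Lib.GW.ZJFactor
import Cfsg.Agent.Lib.PLocal.SLTwo.StableFusionSystem

/-!
Owner: helper29. Walter, field part, `3 ∣ n`: the local subgroup controlling fusion of 3-elements.

* `centralizer_le_of_involutions`: in the presence of `PSLData` the centraliser of an involution is generated by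
  its involutions;
* `involution_eq`: `t` is the only involution centralising `t` in `N(Z(J(P)))`;
* `Local`, `exists_local`: `M = N(Z(J(P))) = K⟨t⟩` with `|K|` odd, `P` a Sylow 3-subgroup of `G`;
* `Local.apply_z_eq_one`: a `t`-invariant homomorphism of `K` to an abelian group is trivial at `z`.
-/

set_option autoImplicit false
set_option linter.style.haveILetI false
set_option linter.unusedSectionVars false

namespace CfsgLib.Walter.Field.Three

open Subgroup
open scoped Pointwise commutatorElement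
open CfsgLib.AbelianPSL (PSLData)
open CfsgLib.Signalizer (involution_sq involution_ne_one involution_inv orderOf_eq_two_of)
open CfsgLib.Walter.Sections (Loc)

universe u v

/-- The centraliser of an involution is generated by the involutions in it. -/
theorem centralizer_le_of_involutions {X : Type*} [Group X] [Finite X] (D : PSLData X) {e : X}
    (he : orderOf e = 2) {H : Subgroup X} (hH : ∀ c : X, c * e = e * c → c * c = 1 → c ∈ H) :
    centralizer ({e} : Set X) ≤ H := by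
  classical
  haveI : Fact (Nat.Prime 2) := ⟨Nat.prime_two⟩
  obtain ⟨v, hv, hve, hev⟩ := CfsgLib.AbelianPSL.exists_partner D he
  have hgp : IsPGroup 2 ↥(zpowers e ⊔ zpowers v) :=
    (CfsgLib.Signalizer.isPGroup_zpowers_involution he).to_sup_of_normal_right'
      (CfsgLib.Signalizer.isPGroup_zpowers_involution hv) (zpowers_le.2 (mem_normalizer_iff_map_conj_eq.2 (by
        rw [MonoidHom.map_zpowers]
        show zpowers (e * v * e⁻¹) = _
        rw [hev, mul_inv_cancel_right])))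
  obtain ⟨P, hP⟩ := hgp.exists_le_sylow
  have heP : e ∈ (P : Subgroup X) := hP (mem_sup_left (mem_zpowers e))
  have hvP : v ∈ (P : Subgroup X) := hP (mem_sup_right (mem_zpowers v))
  have hPc := Sections.sylow_comm_pair D P
  set S := {c : X | c * e = e * c ∧ c * c = 1} with hS
  set Y := closure S with hY
  have hYH : Y ≤ H := (closure_le H).2 fun c hc => hH c hc.1 hc.2
  have hgen : ∀ c ∈ centralizer ({e} : Set X), ∀ y ∈ S, c * y * c⁻¹ ∈ S := fun c hc y hy => by
    have hce : c⁻¹ * e = e * c⁻¹ := mem_centralizer_singleton_iff.1 (inv_mem hc)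
    have hce' := mem_centralizer_singleton_iff.1 hc
    refine ⟨?_, by rw [conj_mul, hy.2, mul_one, mul_inv_cancel]⟩
    calc c * y * c⁻¹ * e = c * y * (c⁻¹ * e) := by group
      _ = c * (y * e) * c⁻¹ := by rw [hce]; group
      _ = (c * e) * y * c⁻¹ := by rw [hy.1]; group
      _ = e * (c * y * c⁻¹) := by rw [hce']; group
  have hPY : (P : Subgroup X) ≤ Y := fun p hp => subset_closure
    ⟨congrArg Subtype.val (hPc.is_comm.comm ⟨p, hp⟩ ⟨e, heP⟩), Sections.sylow_sq D P hp⟩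
  intro c hc
  have hcY : ((c • P : Sylow 2 X) : Subgroup X) ≤ Y := by
    intro q hq
    rw [Sylow.coe_subgroup_smul, Subgroup.mem_pointwise_smul_iff_inv_smul_mem, MulAut.smul_def, ← map_inv,
      MulAut.conj_apply, inv_inv] at hq
    have h1 := hgen c hc _ ⟨congrArg Subtype.val (hPc.is_comm.comm ⟨_, hq⟩ ⟨e, heP⟩), Sections.sylow_sq D P hq⟩
    rw [show c * (c⁻¹ * q * c) * c⁻¹ = q by group] at h1
    exact subset_closure h1
  obtain ⟨y, hy⟩ := MulAction.exists_smul_eq ↥Y ((c • P).subtype hcY) (P.subtype hPY)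
  set x := (y : X) * c with hx
  have hyC : (y : X) ∈ centralizer ({e} : Set X) := by
    have h1 : Y ≤ centralizer ({e} : Set X) := (closure_le _).2 fun z hz => mem_centralizer_singleton_iff.2 hz.1
    exact h1 y.2
  have hxe : x * e = e * x := mem_centralizer_singleton_iff.1 (mul_mem hyC hc)
  have hxn : ∀ p ∈ (P : Subgroup X), x * p * x⁻¹ ∈ (P : Subgroup X) := by
    intro p hp
    have h0 : c * p * c⁻¹ ∈ ((c • P : Sylow 2 X) : Subgroup X) := by
      rw [Sylow.coe_subgroup_smul]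
      exact ⟨p, hp, rfl⟩
    have h1 : y * ⟨c * p * c⁻¹, hcY h0⟩ * y⁻¹ ∈ ((P.subtype hPY : Sylow 2 ↥Y) : Subgroup ↥Y) := by
      rw [← hy, Sylow.coe_subgroup_smul]
      exact ⟨⟨c * p * c⁻¹, hcY h0⟩, h0, rfl⟩
    have h2 : (y : X) * (c * p * c⁻¹) * (y : X)⁻¹ ∈ (P : Subgroup X) := h1
    convert h2 using 1
    rw [hx]; group
  -- the elements of `P`
  have hPset : ∀ p ∈ (P : Subgroup X), p = 1 ∨ p = e ∨ p = v ∨ p = e * v := by
    intro p hp
    have hsub : ({1, e, v, e * v} : Set X) ⊆ ((P : Subgroup X) : Set X) := by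
      intro q hq
      rcases hq with rfl | rfl | rfl | rfl
      exacts [one_mem _, heP, hvP, mul_mem heP hvP]
    have h4 : ({1, e, v, e * v} : Set X).ncard = 4 := by
      have e1 := involution_ne_one he
      have v1 := involution_ne_one hv
      rw [Set.ncard_insert_of_notMem, Set.ncard_insert_of_notMem, Set.ncard_pair]
      · exact fun hh => e1 (mul_eq_right.1 hh.symm)
      · simp only [Set.mem_insert_iff, Set.mem_singleton_iff, not_or]
        exact ⟨fun hh => hve hh.symm, fun hh => v1 (mul_eq_left.1 hh.symm)⟩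
      · simp only [Set.mem_insert_iff, Set.mem_singleton_iff, not_or]
        refine ⟨e1.symm, v1.symm, fun hh => hve ?_⟩
        rw [eq_inv_of_mul_eq_one_right hh.symm, involution_inv he]
    have heq := Set.eq_of_subset_of_ncard_le hsub (by
      rw [h4, ← Nat.card_coe_set_eq]; exact (Sections.card_sylow D P).le)
    have : p ∈ ({1, e, v, e * v} : Set X) := heq ▸ hp
    simpa using this
  suffices hxY : x ∈ Y by
    have hcc : c = (y : X)⁻¹ * x := by rw [hx]; group
    rw [hcc]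
    exact hYH (mul_mem (inv_mem y.2) hxY)
  have hxv := hxn v hvP
  rcases hPset _ hxv with h1 | h1 | h1 | h1
  · exact absurd (conj_eq_one_iff.1 h1) (involution_ne_one hv)
  · refine absurd ?_ hve
    rw [mul_inv_eq_iff_eq_mul, ← hxe] at h1
    exact mul_left_cancel h1
  · exact subset_closure ⟨hxe, CfsgLib.AbelianPSL.sq_of_commute_four D he hv hve.symm hxe
      (mul_inv_eq_iff_eq_mul.1 h1)⟩
  · have h2 : x * x * v = v * (x * x) := by
      have h3 : x * x * v * (x * x)⁻¹ = v := by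
        calc x * x * v * (x * x)⁻¹ = x * (x * v * x⁻¹) * x⁻¹ := by group
          _ = (x * e) * v * x⁻¹ := by rw [h1]; group
          _ = e * (x * v * x⁻¹) := by rw [hxe]; group
          _ = e * e * v := by rw [h1, mul_assoc]
          _ = v := by rw [involution_sq he, one_mul]
      exact mul_inv_eq_iff_eq_mul.1 h3
    have h3 : x * x * e = e * (x * x) := by rw [mul_assoc, hxe, ← mul_assoc, hxe, mul_assoc]
    have h4 := CfsgLib.AbelianPSL.sq_of_commute_four D he hv hve.symm h3 h2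
    have hp2 : IsPGroup 2 ↥(zpowers x) := by
      obtain ⟨i, -, hi⟩ := (Nat.dvd_prime_pow Nat.prime_two).1 (orderOf_dvd_of_pow_eq_one
        (show x ^ 2 ^ 2 = 1 by rw [show (2 : ℕ) ^ 2 = 2 * 2 from rfl, pow_mul, pow_two, pow_two, h4]))
      exact IsPGroup.of_card (n := i) (by rw [Nat.card_zpowers, hi])
    obtain ⟨Q, hQ⟩ := hp2.exists_le_sylow
    exact subset_closure ⟨hxe, Sections.sylow_sq D Q (hQ (mem_zpowers x))⟩

/-- An involution fixing only the identity of an odd subgroup inverts it. -/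
theorem inverted_of_fixed {X : Type*} [Group X] [Finite X] {R : Subgroup X} {s : X} (hs : s * s = 1)
    (hn : ∀ x ∈ R, s * x * s⁻¹ ∈ R) (hfix : ∀ x ∈ R, s * x = x * s → x = 1) :
    ∀ x ∈ R, s * x * s⁻¹ = x⁻¹ := by
  let f : R → R := fun x => ⟨(x : X)⁻¹ * (s * x * s⁻¹), mul_mem (inv_mem x.2) (hn x x.2)⟩
  have hf : Function.Injective f := by
    intro x y hxy
    have h1 : (x : X)⁻¹ * (s * x * s⁻¹) = (y : X)⁻¹ * (s * y * s⁻¹) := congrArg Subtype.val hxy
    refine Subtype.ext (mul_inv_eq_one.1 (hfix _ (mul_mem x.2 (inv_mem y.2)) ?_))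
    refine mul_inv_eq_iff_eq_mul.1 ?_
    calc s * ((x : X) * (y : X)⁻¹) * s⁻¹
        = (x : X) * ((x : X)⁻¹ * (s * x * s⁻¹)) * (s * (y : X)⁻¹ * s⁻¹) := by group
      _ = (x : X) * ((y : X)⁻¹ * (s * y * s⁻¹)) * (s * (y : X)⁻¹ * s⁻¹) := by rw [h1]
      _ = (x : X) * (y : X)⁻¹ := by group
  intro x hx
  obtain ⟨y, hy⟩ := Finite.injective_iff_surjective.1 hf ⟨x, hx⟩
  have h1 : (y : X)⁻¹ * (s * y * s⁻¹) = x := congrArg Subtype.val hy
  rw [← h1]
  have hsi : s⁻¹ = s := inv_eq_of_mul_eq_one_right hs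
  calc s * ((y : X)⁻¹ * (s * y * s⁻¹)) * s⁻¹
      = (s * (y : X)⁻¹ * s⁻¹) * ((s * s) * y * (s * s)⁻¹) := by group
    _ = _ := by rw [hs]; group

/-- An element of odd order is a power of its square. -/
theorem mem_zpowers_sq {X : Type*} [Group X] {x : X} (h : Odd (orderOf x)) : x ∈ zpowers (x * x) := by
  obtain ⟨m, hm⟩ := exists_pow_eq_self_of_coprime (x := x) (n := 2) (Nat.coprime_two_left.2 h)
  refine mem_zpowers_iff.2 ⟨(m : ℤ), ?_⟩
  rw [zpow_natCast, ← pow_two]
  exact hm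

variable {G : Type u} [Group G] [Finite G] {t : G} {E L : Subgroup G} {F : Type} [Field F] [Fintype F] {k : ℕ}

/-- The admissible 3-subgroups. -/
def Good {h : Setting t E L F} {d : Data L k} (fr : Frame h d) (P : Subgroup G) : Prop :=
  IsPGroup 3 P ∧ d.U ≤ P ∧ t ∈ normalizer (P : Set G) ∧
    d.T ≤ normalizer (Cfsg.centerThompsonAOf P : Set G) ∧
    fr.z ∈ normalizer (Cfsg.centerThompsonAOf P : Set G)

variable {h : Setting t E L F} {d : Data L k} (fr : Frame h d)

theorem three_odd {x : G} (hx : ∃ i : ℕ, x ^ 3 ^ i = 1) : Odd (orderOf x) := by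
  obtain ⟨i, hi⟩ := hx
  exact (Odd.pow ⟨1, rfl⟩).of_dvd_nat (orderOf_dvd_of_pow_eq_one hi)

include h in
/-- An element commuting with `t` and `U`-stable odd subgroups: it normalises `U`. -/
theorem mem_normalizer_U {K : Subgroup G} (hodd : Odd (Nat.card K)) (hU : d.U ≤ K) {x : G} (hx : x ∈ K)
    (hxt : x * t = t * x) : x ∈ E ∧ x ∈ normalizer (d.U : Set G) := by
  have hC : ∀ y ∈ K, y * t = t * y → y ∈ E := fun y hy hyt => h.loc.mem_E_of_odd
    (mem_centralizer_singleton_iff.2 hyt) (hodd.of_dvd_nat (K.orderOf_dvd_natCard hy))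
  have hxE := hC x hx hxt
  refine ⟨hxE, mem_normalizer_of_conj_mem fun u hu => ?_⟩
  set H := K ⊓ centralizer ({t} : Set G) ⊓ L
  have hUt : ∀ y ∈ d.U, y * t = t * y := fun y hy => h.comm (h.le (d.U_le hy))
  have hUH : d.U ≤ H := fun y hy =>
    Subgroup.mem_inf.2 ⟨Subgroup.mem_inf.2 ⟨hU hy, mem_centralizer_singleton_iff.2 (hUt y hy)⟩, d.U_le hy⟩
  have hle := d.odd_le H inf_le_right hUH
    (CfsgLib.Bender.odd_of_le (inf_le_left.trans inf_le_left : H ≤ K) hodd)
  refine d.three_le_U (hle (Subgroup.mem_inf.2 ⟨Subgroup.mem_inf.2 ⟨mul_mem (mul_mem hx (hU hu)) (inv_mem hx),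
    mul_mem (mul_mem (mem_centralizer_singleton_iff.2 hxt) (mem_centralizer_singleton_iff.2 (hUt u hu)))
      (inv_mem (mem_centralizer_singleton_iff.2 hxt))⟩, (mem_normalizer_iff.1 (h.normal hxE) u).1 (d.U_le hu)⟩))
    ⟨1, ?_⟩
  rw [pow_one, conj_pow, d.U_cube u hu, mul_one, mul_inv_cancel]

variable {P : Subgroup G}

/-- `t` is the only involution of `N(Z(J(P)))` centralising `t`. -/
theorem involution_eq (hP : Good fr P) {e : G} (he : e ∈ normalizer (Cfsg.centerThompsonAOf P : Set G))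
    (hee : e * e = 1) (het : e * t = t * e) : e = 1 ∨ e = t := by
  haveI : Fact (Nat.Prime 3) := ⟨Nat.prime_three⟩
  haveI : Fact (Nat.Prime 2) := ⟨Nat.prime_two⟩
  set R := Cfsg.centerThompsonAOf P with hR
  set M := normalizer (R : Set G) with hM
  have hPM : P ≤ M := le_normalizer.trans (CfsgLib.PLocal.normalizer_le_normalizer_centerThompsonA P)
  have htM : t ∈ M := CfsgLib.PLocal.normalizer_le_normalizer_centerThompsonA P hP.2.2.1
  have htt : t * t = 1 := involution_sq h.ord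
  obtain ⟨v, hv, hev⟩ := h.loc.form e (mem_centralizer_singleton_iff.2 het)
  have hvM : v ∈ M := by
    rcases hev with rfl | rfl
    · exact he
    · simpa using mul_mem (inv_mem htM) he
  have hvv : v * v = 1 := by
    rcases hev with rfl | rfl
    · exact hee
    · rw [← hee, mul_assoc t v, ← mul_assoc v t v, h.comm hv, mul_assoc t v v, ← mul_assoc t t, htt, one_mul]
  rcases eq_or_ne v 1 with hv1 | hv1
  · rcases hev with e' | e' <;> simp [e', hv1]
  exfalso
  have hv2 := orderOf_eq_two_of hv1 hvv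
  have hvL : v ∈ L := h.mem_L_of_two hv ⟨1, by rw [hv2, pow_one]⟩
  have hvn : v ∉ normalizer (d.U : Set G) := fun hn => hv1 (by
    obtain ⟨u, hu, c, hc, e'⟩ := d.exists_mul (d.normalizer_U (Subgroup.mem_inf.2 ⟨hvL, hn⟩))
    have h1 := d.mul_pow_mem hu hc 2
    rw [← e', pow_two, hvv, one_mul] at h1
    have h2 := inv_eq_one.1 (d.eq_one_of_mem_U_T h1 (inv_mem (pow_mem hc _)))
    have h3 : c = 1 := CfsgLib.ZStar.eq_one_of_odd_of_sq (d.T_odd.of_dvd_nat (d.T.orderOf_dvd_natCard hc)) h2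
    rw [h3, mul_one] at e'
    rw [e'] at hvv ⊢
    have h4 := d.U_cube u hu
    rwa [pow_succ, pow_two, hvv, one_mul] at h4)
  have hLM : L ≤ M := d.gen M (hP.2.1.trans hPM) v hvM hvL hvn
  have hRp : IsPGroup 3 R := hP.1.to_le (CfsgLib.PLocal.centerThompsonA_le P)
  have hRne : R ≠ ⊥ := CfsgLib.PLocal.centerThompsonA_ne_bot hP.1 fun e' =>
    d.U_ne_bot (le_bot_iff.1 (e' ▸ hP.2.1))
  obtain ⟨j, hj⟩ := IsPGroup.iff_card.1 hRp
  have hRodd : Odd (Nat.card R) := hj ▸ Odd.pow ⟨1, rfl⟩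
  have hRL : R ⊓ L = ⊥ := by
    haveI := h.simple_L
    haveI : (R.subgroupOf L).Normal := normal_subgroupOf_of_le_normalizer hLM
    rcases (inferInstance : (R.subgroupOf L).Normal).eq_bot_or_eq_top with e' | e'
    · exact disjoint_iff.1 (subgroupOf_eq_bot.1 e')
    · exfalso
      have h1 := R.orderOf_dvd_natCard (subgroupOf_eq_top.1 e' hvL)
      rw [hv2] at h1
      exact Nat.not_even_iff_odd.2 hRodd (even_iff_two_dvd.2 h1)
  -- `t` inverts `R`
  have hinv : ∀ x ∈ R, t * x * t⁻¹ = x⁻¹ := inverted_of_fixed htt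
    (fun x hx => (mem_normalizer_iff.1 htM x).1 hx) fun x hx hxt => by
      have hxE := h.loc.mem_E_of_odd (mem_centralizer_singleton_iff.2 hxt.symm)
        (hRodd.of_dvd_nat (R.orderOf_dvd_natCard hx))
      refine h.cen x hxE fun y hy => ?_
      have h1 : x * y * x⁻¹ * y⁻¹ ∈ R ⊓ L := by
        refine Subgroup.mem_inf.2 ⟨?_, mul_mem ((mem_normalizer_iff.1 (h.normal hxE) y).1 hy) (inv_mem hy)⟩
        rw [show x * y * x⁻¹ * y⁻¹ = x * (y * x⁻¹ * y⁻¹) by group]
        exact mul_mem hx ((mem_normalizer_iff.1 (hLM hy) _).1 (inv_mem hx))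
      rw [hRL, mem_bot, mul_inv_eq_one, mul_inv_eq_iff_eq_mul] at h1
      exact h1
  -- a four group of `L`
  obtain ⟨S⟩ : Nonempty (Sylow 2 L) := inferInstance
  set A := (S : Subgroup L).map L.subtype with hA
  have hAL : A ≤ L := map_subtype_le _
  haveI : IsMulCommutative A := by
    refine ⟨⟨?_⟩⟩
    rintro ⟨_, a, ha, rfl⟩ ⟨_, b, hb, rfl⟩
    exact Subtype.ext (congrArg (fun x : (S : Subgroup L) => ((x : L) : G))
      ((Sections.sylow_comm_pair h.pslData S).is_comm.comm ⟨a, ha⟩ ⟨b, hb⟩))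
  refine hRne (le_bot_iff.1 (CfsgLib.LocalEven.le_of_centralizers_le (p := 2) (A := A) (N := R) (Y := ⊥)
    ?_ ?_ (hAL.trans hLM) (fun h2 => Nat.not_even_iff_odd.2 hRodd (even_iff_two_dvd.2 h2)) ?_))
  · rintro _ ⟨a, ha, rfl⟩
    rw [pow_two, ← map_mul, Sections.sylow_sq h.pslData S ha, map_one]
  · rw [hA, card_map_of_injective L.subtype_injective, Sections.card_sylow h.pslData S]
    norm_num
  intro w hw hw1
  have hwL : w ∈ L := hAL hw
  obtain ⟨w', hw', rfl⟩ := hw
  have hww : (w' : G) * w' = 1 := congrArg Subtype.val (Sections.sylow_sq h.pslData S hw')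
  have hw2 : orderOf (w' : G) = 2 := orderOf_eq_two_of hw1 hww
  intro x hx
  obtain ⟨E', N', lc⟩ := Sections.exists_loc_of_jr h.jr hw2
  set w : G := (w' : G) with hw_def
  have hwt : w * t = t * w := h.comm (h.le hwL)
  obtain ⟨f, hf, htf⟩ := lc.form t (mem_centralizer_singleton_iff.2 hwt.symm)
  have hfe : f = t ∨ f = w * t := by
    rcases htf with e' | e'
    · exact Or.inl e'.symm
    · exact Or.inr (by rw [e', ← mul_assoc, hww, one_mul])
  have hff : f * f = 1 := by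
    rcases hfe with rfl | rfl
    · exact htt
    · rw [mul_assoc, ← mul_assoc t w, ← hwt, mul_assoc w t, htt, mul_one, hww]
  have hf1 : f ≠ 1 := by
    rcases hfe with rfl | rfl
    · exact involution_ne_one h.ord
    · intro e'
      refine h.loc.not_mem ?_
      rw [eq_inv_of_mul_eq_one_right e']
      exact inv_mem (h.le hwL)
  have hf2 := orderOf_eq_two_of hf1 hff
  have hfN : f ∈ N' := lc.mem_N_of_two_power h.abSylow hf ⟨1, by rw [hf2, pow_one]⟩
  set X := R ⊓ centralizer ({w} : Set G) with hX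
  have hXodd : Odd (Nat.card X) := CfsgLib.Bender.odd_of_le inf_le_left hRodd
  have hfinv : ∀ y ∈ X, f * y * f⁻¹ = y⁻¹ := by
    intro y hy
    rcases hfe with rfl | rfl
    · exact hinv y hy.1
    · have hwy := mem_centralizer_singleton_iff.1 (inv_mem hy.2)
      calc w * t * y * (w * t)⁻¹ = w * (t * y * t⁻¹) * w⁻¹ := by group
        _ = w * y⁻¹ * w⁻¹ := by rw [hinv y hy.1]
        _ = y⁻¹ := by rw [← hwy, mul_inv_cancel_right]
  have hXN : X ≤ N' := by
    intro y hy
    have hyo : Odd (orderOf y) := hXodd.of_dvd_nat (X.orderOf_dvd_natCard hy)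
    have hyE := lc.mem_E_of_odd hy.2 hyo
    have h1 : f * (y * f⁻¹ * y⁻¹) ∈ N' :=
      mul_mem hfN ((mem_normalizer_iff.1 (lc.nrm hyE) _).1 (inv_mem hfN))
    rw [show f * (y * f⁻¹ * y⁻¹) = f * y * f⁻¹ * y⁻¹ by group, hfinv y hy, ← mul_inv_rev] at h1
    exact (zpowers_le.2 (inv_mem_iff.1 h1)) (mem_zpowers_sq hyo)
  have hX' : X.subgroupOf N' = ⊥ := by
    refine CfsgLib.AbelianPSL.eq_bot_of_inverted lc.data (s := ⟨f, hfN⟩) (by rw [Subgroup.orderOf_mk, hf2]) ?_
      (fun y hy => Subtype.ext (hfinv _ hy)) ?_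
    · rwa [Nat.card_congr (subgroupOfEquivOfLe hXN).toEquiv]
    refine centralizer_le_of_involutions lc.data (by rw [Subgroup.orderOf_mk, hf2]) fun c hc hcc => ?_
    have hcf : (c : G) * f = f * c := congrArg Subtype.val hc
    have hcw : (c : G) * w = w * c := lc.comm _ (lc.le c.2)
    have hct : (c : G) * t = t * c := by
      have ht' : t = f ∨ t = w * f := htf
      rcases ht' with e' | e'
      · rw [e']; exact hcf
      · rw [e', ← mul_assoc, hcw, mul_assoc, hcf, mul_assoc]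
    obtain ⟨ε, hε, hcε⟩ := h.loc.form (c : G) (mem_centralizer_singleton_iff.2 hct)
    have hcc' : (c : G) * c = 1 := congrArg Subtype.val hcc
    have hεε : ε * ε = 1 := by
      rcases hcε with e' | e'
      · rw [← e']; exact hcc'
      · rw [← hcc', e', mul_assoc t ε, ← mul_assoc ε t ε, h.comm hε, mul_assoc t ε ε, ← mul_assoc t t, htt,
          one_mul]
    have hεM : ε ∈ M := by
      rcases eq_or_ne ε 1 with rfl | hε1
      · exact one_mem _
      exact hLM (h.mem_L_of_two hε ⟨1, by rw [orderOf_eq_two_of hε1 hεε, pow_one]⟩)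
    have hcM : (c : G) ∈ M := by
      rcases hcε with e' | e'
      · rw [e']; exact hεM
      · rw [e']; exact mul_mem htM hεM
    refine mem_normalizer_of_conj_mem fun y hy => ?_
    exact Subgroup.mem_inf.2 ⟨(mem_normalizer_iff.1 hcM _).1 hy.1,
      mul_mem (mul_mem (mem_centralizer_singleton_iff.2 hcw) hy.2) (inv_mem (mem_centralizer_singleton_iff.2 hcw))⟩
  have hxX : x ∈ X := hx
  have h1 : (⟨x, hXN hxX⟩ : N') ∈ X.subgroupOf N' := hxX
  rw [hX', mem_bot] at h1
  exact mem_bot.2 (congrArg Subtype.val h1)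

/-- The local subgroup. -/
structure Local (fr : Frame h d) where
  P : Sylow 3 G
  M : Subgroup G
  K : Subgroup G
  K_le : K ≤ M
  norm : M ≤ normalizer (K : Set G)
  odd : Odd (Nat.card K)
  split : ∀ m ∈ M, m ∈ K ∨ t * m ∈ K
  t_mem : t ∈ M
  U_le : d.U ≤ K
  T_le : d.T ≤ K
  z_mem : fr.z ∈ K
  P_le : (P : Subgroup G) ≤ K
  fusion : ∀ x ∈ (P : Subgroup G), ∀ g : G, g * x * g⁻¹ ∈ (P : Subgroup G) →
    ∃ m ∈ M, m * x * m⁻¹ = g * x * g⁻¹

/-- The index two part of `N(Z(J(P)))`. -/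
theorem exists_half (hP : Good fr P) :
    ∃ K : Subgroup G, K ≤ normalizer (Cfsg.centerThompsonAOf P : Set G) ∧
      normalizer (Cfsg.centerThompsonAOf P : Set G) ≤ normalizer (K : Set G) ∧ Odd (Nat.card K) ∧
      (∀ m ∈ normalizer (Cfsg.centerThompsonAOf P : Set G), m ∈ K ∨ t * m ∈ K) ∧
      ∀ m ∈ normalizer (Cfsg.centerThompsonAOf P : Set G), Odd (orderOf m) → m ∈ K := by
  haveI : Fact (Nat.Prime 2) := ⟨Nat.prime_two⟩
  set M := normalizer (Cfsg.centerThompsonAOf P : Set G) with hM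
  have htM : t ∈ M := CfsgLib.PLocal.normalizer_le_normalizer_centerThompsonA P hP.2.2.1
  set t' : M := ⟨t, htM⟩ with ht'
  have ht2 : orderOf t' = 2 := by rw [ht', Subgroup.orderOf_mk, h.ord]
  obtain ⟨S, hS⟩ := (CfsgLib.Signalizer.isPGroup_zpowers_involution ht2).exists_le_sylow
  have hSeq : (S : Subgroup M) = zpowers t' := by
    refine le_antisymm (fun x hx => ?_) hS
    obtain ⟨S', hS'⟩ := (S.2.map M.subtype).exists_le_sylow
    have hsq : (x : G) * x = 1 := Sections.jr_sq h.jr S' (hS' ⟨x, hx, rfl⟩)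
    have hcomm : (x : G) * t = t * x := congrArg Subtype.val (congrArg Subtype.val
      ((CfsgLib.AbelianSolvCent.abSylow_subgroup h.abSylow M S).is_comm.comm ⟨x, hx⟩
        ⟨t', hS (mem_zpowers t')⟩))
    rcases involution_eq fr hP x.2 hsq hcomm with e | e
    · rw [show x = 1 from Subtype.ext e]; exact one_mem _
    · rw [show x = t' from Subtype.ext e]; exact mem_zpowers _
  have hnc : normalizer ((S : Subgroup M) : Set M) ≤ centralizer ((S : Subgroup M) : Set M) := by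
    intro g hg
    have hgt : g * t' * g⁻¹ = t' := by
      have h1 := (mem_normalizer_iff.1 hg t').1 (hS (mem_zpowers t'))
      rw [hSeq] at h1
      obtain ⟨j, hj⟩ := mem_zpowers_iff.1 h1
      rw [← zpow_mod_orderOf, ht2] at hj
      rcases Int.emod_two_eq_zero_or_one j with e | e
      · rw [show j % ((2 : ℕ) : ℤ) = 0 from e, zpow_zero] at hj
        exact absurd (conj_eq_one_iff.1 hj.symm) (involution_ne_one ht2)
      · rw [show j % ((2 : ℕ) : ℤ) = 1 from e, zpow_one] at hj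
        exact hj.symm
    rw [hSeq, zpowers_eq_closure, centralizer_closure]
    exact mem_centralizer_singleton_iff.2 (mul_inv_eq_iff_eq_mul.1 hgt)
  have hc := MonoidHom.ker_transferSylow_isComplement' S hnc
  set K' := (MonoidHom.transferSylow S hnc).ker with hK'
  have hi : K'.index = 2 := by
    rw [hc.symm.index_eq_card, hSeq, Nat.card_zpowers, ht2]
  have hodd : Odd (Nat.card K') := by
    rw [← Nat.not_even_iff_odd, even_iff_two_dvd]
    intro h2
    obtain ⟨x, hx⟩ := exists_prime_orderOf_dvd_card' (G := K') 2 h2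
    obtain ⟨Q, hQ⟩ := (CfsgLib.Signalizer.isPGroup_zpowers_involution
      (show orderOf (x : M) = 2 by rw [Subgroup.orderOf_coe, hx])).exists_le_sylow
    obtain ⟨g, hg⟩ := MulAction.exists_smul_eq M Q S
    have h1 : g * (x : M) * g⁻¹ ∈ (S : Subgroup M) := by
      rw [← hg, Sylow.coe_subgroup_smul]
      exact ⟨(x : M), hQ (mem_zpowers _), rfl⟩
    have h2' := mem_bot.1 (hc.disjoint.le_bot ⟨(inferInstance : K'.Normal).conj_mem _ x.2 g, h1⟩)
    rw [show x = 1 from Subtype.ext (conj_eq_one_iff.1 h2'), orderOf_one] at hx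
    omega
  have ht'K : t' ∉ K' := fun e => involution_ne_one ht2
    (mem_bot.1 (hc.disjoint.le_bot ⟨e, hSeq ▸ mem_zpowers t'⟩))
  have hsplit : ∀ m : M, m ∈ K' ∨ t' * m ∈ K' := fun m => by
    by_cases hm : m ∈ K'
    · exact Or.inl hm
    · exact Or.inr ((mul_mem_iff_of_index_two hi).2 (iff_of_false ht'K hm))
  refine ⟨K'.map M.subtype, map_subtype_le _, CfsgLib.TwoGroups.Bender.le_normalizer_map_subtype K', ?_, ?_, ?_⟩
  · rwa [card_map_of_injective M.subtype_injective]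
  · intro m hm
    rcases hsplit ⟨m, hm⟩ with h1 | h1
    · exact Or.inl ⟨⟨m, hm⟩, h1, rfl⟩
    · exact Or.inr ⟨_, h1, rfl⟩
  · intro m hm hodd'
    have h1 := mem_zpowers_sq (X := M) (x := ⟨m, hm⟩) (by rwa [Subgroup.orderOf_mk])
    exact ⟨⟨m, hm⟩, zpowers_le.2 (mul_self_mem_of_index_two hi _) h1, rfl⟩

/-- The local subgroup exists. -/
theorem exists_local : Nonempty (Local fr) := by
  classical
  haveI : Fact (Nat.Prime 3) := ⟨Nat.prime_three⟩
  haveI : Fact (Nat.Prime 2) := ⟨Nat.prime_two⟩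
  haveI : Nonempty {P : Subgroup G // Good fr P} := by
    refine ⟨⟨d.U, d.isPGroup_U, le_rfl, centralizer_le_normalizer _ (mem_centralizer_iff.2 fun y hy => ?_),
      d.T_norm.trans (CfsgLib.PLocal.normalizer_le_normalizer_centerThompsonA _),
      CfsgLib.PLocal.normalizer_le_normalizer_centerThompsonA _ fr.norm_U⟩⟩
    exact h.comm (h.le (d.U_le hy))
  obtain ⟨⟨P, hP⟩, hmax⟩ := Finite.exists_max fun P : {P : Subgroup G // Good fr P} => Nat.card P.1
  obtain ⟨K, hKM, hMK, hKodd, hsplit, hKmem⟩ := exists_half fr hP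
  set M := normalizer (Cfsg.centerThompsonAOf P : Set G) with hM
  have hPM : P ≤ M := le_normalizer.trans (CfsgLib.PLocal.normalizer_le_normalizer_centerThompsonA P)
  have htM : t ∈ M := CfsgLib.PLocal.normalizer_le_normalizer_centerThompsonA P hP.2.2.1
  have hPK : P ≤ K := fun x hx => hKmem x (hPM hx) (by
    obtain ⟨i, hi⟩ := hP.1 ⟨x, hx⟩
    exact three_odd ⟨i, congrArg Subtype.val hi⟩)
  have hUK : d.U ≤ K := hP.2.1.trans hPK
  have hTK : d.T ≤ K := fun x hx => hKmem x (hP.2.2.2.1 hx)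
    (d.T_odd.of_dvd_nat (d.T.orderOf_dvd_natCard hx))
  have hzK : fr.z ∈ K := hKmem _ hP.2.2.2.2 (three_odd fr.three)
  have htK : zpowers t ≤ normalizer (K : Set G) := zpowers_le.2 (hMK htM)
  have hcop : (Nat.card (zpowers t)).Coprime (Nat.card K) := by
    rw [Nat.card_zpowers, h.ord]; exact Nat.coprime_two_left.2 hKodd
  obtain ⟨Q, hPQ, hQt⟩ := CfsgLib.Core.exists_invariant_sylow_ge htK hcop (Or.inl inferInstance) hPK hP.1
    (zpowers_le.2 hP.2.2.1)
  set P' := (Q : Subgroup K).map K.subtype with hP'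
  have hP'p : IsPGroup 3 P' := Q.2.map _
  set R' := Cfsg.centerThompsonAOf P' with hR'
  have htR' : t ∈ normalizer (R' : Set G) :=
    CfsgLib.PLocal.normalizer_le_normalizer_centerThompsonA _ (hQt (mem_zpowers t))
  have hS : ∃ S : Sylow 2 G, t ∈ (S : Subgroup G) := by
    obtain ⟨S, hS⟩ := (CfsgLib.Signalizer.isPGroup_zpowers_involution h.ord).exists_le_sylow
    exact ⟨S, hS (mem_zpowers t)⟩
  obtain ⟨S₂, -⟩ := hS
  have hnq : CfsgLib.PLocal.SLTwo.NoQd 3 G := CfsgLib.Bender.noQd_of_comm_sylow_two (by norm_num) S₂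
    fun x hx y hy => congrArg Subtype.val ((h.abSylow S₂).is_comm.comm ⟨x, hx⟩ ⟨y, hy⟩)
  set O := (Cfsg.pPrimeCore 3 ↥K).map K.subtype with hO
  have hzj : ∀ c : K, ∃ o : K, o ∈ Cfsg.pPrimeCore 3 ↥K ∧
      (o : G)⁻¹ * c ∈ normalizer (R' : Set G) := by
    intro c
    haveI hsol : Group.IsSolvable ↥K := CfsgLib.OddLocal.FTFinal.odd_order_solvable hKodd
    have h1 := CfsgLib.GW.zj_factor (p := 3) (by norm_num) (CfsgLib.PLocal.SLTwo.noQd_subgroup hnq K)
      inferInstance Q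
    have h2 : c ∈ Cfsg.pPrimeCore 3 ↥K ⊔
        normalizer (Cfsg.centerThompsonAOf (Q : Subgroup K) : Set K) := h1 ▸ mem_top c
    rw [sup_comm, CfsgLib.Core.mem_sup_iff_mul' (CfsgLib.Core.le_normalizer_of_normal _ _)] at h2
    obtain ⟨o, ho, n, hn, rfl⟩ := h2
    refine ⟨o, ho, ?_⟩
    have h3 := le_normalizer_map K.subtype (mem_map_of_mem K.subtype hn)
    rw [CfsgLib.PLocal.centerThompsonA_map K.subtype _ (by rw [K.ker_subtype]; exact disjoint_bot_right)] at h3
    rw [Subgroup.coe_mul, ← mul_assoc, inv_mul_cancel, one_mul]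
    exact h3
  have hOK : O ≤ K := map_subtype_le _
  have hMO : ∀ m ∈ normalizer (K : Set G), ∀ x ∈ O, m * x * m⁻¹ ∈ O := by
    intro m hm x hx
    obtain ⟨y, hy, rfl⟩ := hx
    have hc := CfsgLib.Core.characteristic_pPrimeCore 3 ↥K
    exact ⟨_, (characteristic_iff_map_eq.1 hc
      (MulDistribMulAction.toMulAut ↥(normalizer (K : Set G)) ↥K ⟨m, hm⟩)).le ⟨y, hy, rfl⟩, rfl⟩
  have hKc : ∀ c ∈ K, c * t = t * c → c ∈ normalizer (R' : Set G) := by
    intro c hc hct
    obtain ⟨⟨o, hoK⟩, ho, hn⟩ := hzj ⟨c, hc⟩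
    have hinv : ∀ x ∈ O, t * x * t⁻¹ = x⁻¹ := inverted_of_fixed (involution_sq h.ord)
      (fun x hx => hMO t (htK (mem_zpowers t)) x hx) fun x hx hxt => by
        obtain ⟨hxE, hxn⟩ := mem_normalizer_U (h := h) (d := d) hKodd hUK (hOK hx) hxt.symm
        have hdis : ∀ y : G, y ∈ O → y ∈ d.U → y = 1 := by
          rintro _ ⟨⟨y, hyK⟩, hy, rfl⟩ hyU
          exact congrArg Subtype.val (mem_bot.1 ((CfsgLib.PLocal.disjoint_pPrime
            (P := d.U.subgroupOf K) (p := 3) (d.isPGroup_U.comap_of_injective _ K.subtype_injective)).le_bot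
            ⟨hyU, hy⟩))
        have hxU : x ∈ d.U := centralizer_U h d hxE fun u hu => by
          have h1 := hdis (x * u * x⁻¹ * u⁻¹) (by
            rw [show x * u * x⁻¹ * u⁻¹ = x * (u * x⁻¹ * u⁻¹) by group]
            exact mul_mem hx (hMO u (le_normalizer (hUK hu)) _ (inv_mem hx)))
            (mul_mem ((mem_normalizer_iff.1 hxn u).1 hu) (inv_mem hu))
          rwa [mul_inv_eq_one, mul_inv_eq_iff_eq_mul] at h1
        exact hdis x hx hxU
    have hoO : o ∈ O := ⟨⟨o, hoK⟩, ho, rfl⟩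
    have h2 := mul_mem (mul_mem htR' hn) (inv_mem htR')
    have h3 : t * (o⁻¹ * c) * t⁻¹ = o * c := by
      calc t * (o⁻¹ * c) * t⁻¹ = (t * o⁻¹ * t⁻¹) * (t * c * t⁻¹) := by group
        _ = o * c := by rw [hinv _ (inv_mem hoO), inv_inv, ← hct, mul_inv_cancel_right]
    rw [h3] at h2
    have h4 : o * o ∈ normalizer (R' : Set G) := by
      have := mul_mem h2 (inv_mem hn)
      rwa [show o * c * (o⁻¹ * c)⁻¹ = o * o by group] at this
    have h5 : o ∈ normalizer (R' : Set G) := zpowers_le.2 h4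
      (mem_zpowers_sq (hKodd.of_dvd_nat (K.orderOf_dvd_natCard hoK)))
    have := mul_mem h5 hn
    rwa [mul_inv_cancel_left] at this
  have hgood : Good fr P' := ⟨hP'p, hP.2.1.trans hPQ, hQt (mem_zpowers t),
    fun x hx => hKc x (hTK hx) (h.comm (h.le (d.T_le hx))),
    hKc _ hzK (h.comm fr.mem_E)⟩
  have heq : P = P' := eq_of_le_of_card_ge hPQ (hmax ⟨P', hgood⟩)
  -- a Sylow subgroup of `G`
  obtain ⟨R, hR⟩ := hP.1.exists_le_sylow
  have hRP : (R : Subgroup G) = P := by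
    refine le_antisymm ?_ hR
    by_contra hnot
    obtain ⟨g, hgR, hgN, hgP⟩ := CfsgLib.Techniques.exists_mem_normalizer_not_mem R.2 hR hnot
    have hgK : g ∈ K := hKmem g (CfsgLib.PLocal.normalizer_le_normalizer_centerThompsonA P hgN) (by
      obtain ⟨i, hi⟩ := R.2 ⟨g, hgR⟩
      exact three_odd ⟨i, congrArg Subtype.val hi⟩)
    have hQR : (Q : Subgroup K) ≤ (R : Subgroup G).subgroupOf K := fun x hx =>
      hR (heq ▸ ⟨x, hx, rfl⟩)
    have hQeq := Q.3 R.2.comap_subtype hQR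
    exact hgP (heq ▸ ⟨⟨g, hgK⟩, hQeq ▸ (show (⟨g, hgK⟩ : K) ∈ (R : Subgroup G).subgroupOf K from hgR), rfl⟩)
  have hfus := CfsgLib.LocalEvenB.controlsFusion_centerThompsonA_noQd (p := 3) (by norm_num) R (R : Subgroup G)
    ⟨le_rfl, fun _ _ _ hgx => hgx⟩ hnq
  rw [hRP] at hfus
  refine ⟨⟨R, M, K, hKM, hMK, hKodd, hsplit, htM, hUK, hTK, hzK, hRP ▸ hPK, fun x hx g hgx => ?_⟩⟩
  rw [hRP] at hx hgx
  obtain ⟨n, hn, hne⟩ := hfus (zpowers x) (zpowers_le.2 hx) g fun y hy => by
    obtain ⟨i, rfl⟩ := mem_zpowers_iff.1 hy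
    rw [← conj_zpow]
    exact zpow_mem hgx i
  exact ⟨n, hn, hne x (mem_zpowers x)⟩

namespace Local

variable {fr} (l : Local fr)

theorem conj_mem {x : G} (hx : x ∈ l.K) : t * x * t⁻¹ ∈ l.K := (mem_normalizer_iff.1 (l.norm l.t_mem) x).1 hx

/-- A `t`-invariant homomorphism of `K` to an abelian group is trivial at `z`. -/
theorem apply_z_eq_one {A : Type v} [CommGroup A] (f : l.K →* A)
    (hf : ∀ x : l.K, f ⟨t * x * t⁻¹, l.conj_mem x.2⟩ = f x) : f ⟨fr.z, l.z_mem⟩ = 1 := by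
  haveI : Fact (Nat.Prime 3) := ⟨Nat.prime_three⟩
  haveI := h.simple
  set Z : Subgroup G := f.ker.map l.K.subtype with hZ
  have htop : commutator G = ⊤ := by
    refine ((inferInstance : (commutator G).Normal).eq_bot_or_eq_top).resolve_left fun hb => ?_
    refine Sections.not_comm h.loc.data ⟨⟨fun a b => Subtype.ext ?_⟩⟩
    have h1 : ⁅(a : G), (b : G)⁆ ∈ commutator G := commutator_mem_commutator (mem_top _) (mem_top _)
    rwa [hb, mem_bot, commutatorElement_eq_one_iff_mul_comm] at h1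
  have hfoc := Subgroup.commutator_inf_eq_focalSubgroup (P := l.P)
  rw [htop, top_inf_eq] at hfoc
  have hPZ : (l.P : Subgroup G) ≤ Z := by
    rw [hfoc, focalSubgroup_def, closure_le]
    rintro _ ⟨hgP, x, hx, w, rfl⟩
    rw [commutatorElement_def] at hgP ⊢
    have hwx : w * x⁻¹ * w⁻¹ ∈ (l.P : Subgroup G) := by
      have := mul_mem (inv_mem hx) hgP
      rwa [show x⁻¹ * (x * w * x⁻¹ * w⁻¹) = w * x⁻¹ * w⁻¹ by group] at this
    obtain ⟨m, hm, hmx⟩ := l.fusion x⁻¹ (inv_mem hx) w hwx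
    have hxK : x ∈ l.K := l.P_le hx
    refine ⟨⟨x, hxK⟩ * ⟨w * x⁻¹ * w⁻¹, l.P_le hwx⟩, ?_, by
      show x * (w * x⁻¹ * w⁻¹) = _
      group⟩
    rw [SetLike.mem_coe, MonoidHom.mem_ker, map_mul]
    have key : ∀ k ∈ l.K, ∀ y, ∀ hy : k * y * k⁻¹ ∈ l.K, ∀ hy' : y ∈ l.K,
        f ⟨k * y * k⁻¹, hy⟩ = f ⟨y, hy'⟩ := fun k hk y hy hy' => by
      rw [show (⟨k * y * k⁻¹, hy⟩ : l.K) = ⟨k, hk⟩ * ⟨y, hy'⟩ * ⟨k, hk⟩⁻¹ from rfl, map_mul, map_mul,
        map_inv, mul_comm (f ⟨k, hk⟩), mul_inv_cancel_right]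
    have h1 : f ⟨w * x⁻¹ * w⁻¹, l.P_le hwx⟩ = f ⟨x⁻¹, inv_mem hxK⟩ := by
      rcases l.split m hm with hk | hk
      · calc f ⟨w * x⁻¹ * w⁻¹, l.P_le hwx⟩
            = f ⟨m * x⁻¹ * m⁻¹, mul_mem (mul_mem hk (inv_mem hxK)) (inv_mem hk)⟩ := by
              exact congrArg f (Subtype.ext hmx.symm)
          _ = _ := key m hk _ _ _
      · have hy : (t * m) * x⁻¹ * (t * m)⁻¹ ∈ l.K := mul_mem (mul_mem hk (inv_mem hxK)) (inv_mem hk)
        calc f ⟨w * x⁻¹ * w⁻¹, l.P_le hwx⟩ = f ⟨t * (w * x⁻¹ * w⁻¹) * t⁻¹, l.conj_mem (l.P_le hwx)⟩ :=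
              (hf ⟨_, l.P_le hwx⟩).symm
          _ = f ⟨(t * m) * x⁻¹ * (t * m)⁻¹, hy⟩ := by
              refine congrArg f (Subtype.ext ?_)
              show t * (w * x⁻¹ * w⁻¹) * t⁻¹ = t * m * x⁻¹ * (t * m)⁻¹
              rw [← hmx]; group
          _ = _ := key _ hk _ _ _
    rw [h1, ← map_mul]
    exact (congrArg f (mul_inv_cancel (⟨x, hxK⟩ : l.K))).trans (map_one f)
  obtain ⟨i, hi⟩ := fr.three
  have hzp : IsPGroup 3 ↥(zpowers (⟨fr.z, l.z_mem⟩ : l.K)) := by
    obtain ⟨j, -, hj⟩ := (Nat.dvd_prime_pow Nat.prime_three).1 (orderOf_dvd_of_pow_eq_one hi)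
    exact IsPGroup.of_card (n := j) (by rw [Nat.card_zpowers, Subgroup.orderOf_mk, hj])
  obtain ⟨c, hc⟩ := CfsgLib.Techniques.exists_conj_mem_sylow (l.P.subtype l.P_le) hzp
  have h1 := hPZ (hc _ (mem_zpowers _))
  obtain ⟨y, hy, hye⟩ := h1
  rw [SetLike.mem_coe, MonoidHom.mem_ker, show y = c * ⟨fr.z, l.z_mem⟩ * c⁻¹ from Subtype.ext hye, map_mul,
    map_mul, map_inv, mul_comm (f c), mul_inv_cancel_right] at hy
  exact hy

end Local

end CfsgLib.Walter.Field.Three
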