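import Cfsg.Agent.Lib.Recog.Walter.Field.Three.Instance
import Cfsg.Agent.Lib.Recog.Walter.Field.Core

/-!
Owner: helper12. Walter, field part (A), complete: in characteristic three `3` does not divide the order of the
group of field automorphisms.
-/

set_option autoImplicit false

namespace CfsgLib.Walter.Field

universe u

/-- In characteristic three `3` does not divide `n`. -/
theorem Setting.not_three_dvd {G : Type u} [Group G] [Finite G] {t : G} {E L : Subgroup G} {F : Type}
    [Field F] [Fintype F] [CharP F 3] (h : Setting t E L F) : ¬ 3 ∣ h.n :=
  h.not_three_dvd_of_core fun _ _ _ _ _ _ _ c => c.core_conclusion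

end CfsgLib.Walter.Field
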